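import Cfsg.Prelude.Def_Spor_J3

/-!
Vectors of `F⁹` (F with four elements) packed in 18 bits, and matrices as lists of nine columns.
-/

set_option autoImplicit false

namespace Cfsg.Agent.H15.J3

open Cfsg.Spor Matrix Finset

/-- `F` has four elements and `ω` is a primitive cube root of unity. -/
structure Good (F : Type*) [Field F] [Fintype F] (ω : F) : Prop where
  card : Fintype.card F = 4
  eq : ω ^ 2 + ω + 1 = 0

/-- Multiply a packed vector by `ω`. -/
def mw (v : ℕ) : ℕ :=
  (Nat.shiftRight v 9 &&& 511) ||| Nat.shiftLeft ((v &&& 511) ^^^ (Nat.shiftRight v 9 &&& 511)) 9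

/-- Multiply a packed vector by `a + b ω`. -/
def pick (a b : Bool) (c : ℕ) : ℕ :=
  (bif a then c else 0) ^^^ (bif b then mw c else 0)

/-- Partial sum of the image of `v`. -/
def appN (M : List ℕ) (v : ℕ) : ℕ → ℕ
  | 0 => 0
  | n + 1 => appN M v n ^^^ pick (v.testBit n) (v.testBit (9 + n)) (M.getD n 0)

/-- The image of `v` under `M`. -/
def app (M : List ℕ) (v : ℕ) : ℕ := appN M v 9

/-- Matrix product. -/
def mm (M N : List ℕ) : List ℕ := (List.range 9).map fun k => app M (N.getD k 0)

/-- The identity. -/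
def idM : List ℕ := [1, 2, 4, 8, 16, 32, 64, 128, 256]

/-- Kernel friendly minimum. -/
def nmin (a b : ℕ) : ℕ := bif Nat.ble a b then a else b

/-- The least scalar multiple. -/
def norm (v : ℕ) : ℕ := nmin v (nmin (mw v) (mw (mw v)))

theorem nmin_eq (a b : ℕ) : nmin a b = min a b := by
  rcases Nat.lt_or_ge b a with h | h
  · rw [nmin, show Nat.ble a b = false by
      rw [← Bool.not_eq_true, Nat.ble_eq]; omega]
    simp only [cond_false]; omega
  · rw [nmin, show Nat.ble a b = true by rw [Nat.ble_eq]; omega]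
    simp only [cond_true]; omega

/-- The number of a point. -/
def idx (z : F9) : ℕ := 3 * z.1.val + z.2.val

/-- The point with a number. -/
def pt (k : ℕ) : F9 := ((k / 3 : ℕ), (k % 3 : ℕ))

theorem idx_lt (z : F9) : idx z < 9 := by revert z; decide

theorem pt_idx (z : F9) : pt (idx z) = z := by revert z; decide

theorem idx_pt {k : ℕ} (hk : k < 9) : idx (pt k) = k := by
  revert k; decide

theorem idx_inj {z w : F9} : idx z = idx w ↔ z = w :=
  ⟨fun h => by rw [← pt_idx z, h, pt_idx], fun h => h ▸ rfl⟩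

theorem sum9 {M : Type*} [AddCommMonoid M] (f : F9 → M) :
    ∑ z, f z = ∑ k ∈ range 9, f (pt k) := by
  refine Finset.sum_nbij' (fun z => idx z) pt (fun z _ => mem_range.2 (idx_lt z))
    (fun k _ => mem_univ _) (fun z _ => pt_idx z) (fun k hk => idx_pt (mem_range.1 hk))
    (fun z _ => by rw [pt_idx])

section

variable {F : Type*} [Field F] (ω : F)

/-- `a + b ω`. -/
def cf (a b : Bool) : F := (if a then 1 else 0) + (if b then ω else 0)

/-- The vector of a code. -/
def val (v : ℕ) : F9 → F := fun z => cf ω (v.testBit (idx z)) (v.testBit (9 + idx z))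

/-- The matrix of a code. -/
def toMat (M : List ℕ) : Matrix F9 F9 F := Matrix.of fun w z => val ω (M.getD (idx z) 0) w

theorem toMat_apply (M : List ℕ) (w z : F9) : toMat ω M w z = val ω (M.getD (idx z) 0) w := rfl

theorem val_zero : val ω 0 = 0 := by
  funext z
  simp [val, cf]

end

section

variable {F : Type*} [Field F] [Fintype F] {ω : F} (hG : Good F ω)
include hG

theorem two_zero : (2 : F) = 0 := by
  have h := FiniteField.cast_card_eq_zero F
  rw [hG.card] at h
  have h4 : (2 : F) * 2 = 0 := by rw [← h]; norm_num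
  exact mul_self_eq_zero.1 h4

theorem add_self (x : F) : x + x = 0 := by rw [← two_mul, two_zero hG, zero_mul]

theorem w_ne_zero : ω ≠ 0 := by
  intro h
  have := hG.eq
  simp [h] at this

theorem w_ne_one : ω ≠ 1 := by
  intro h
  have := hG.eq
  rw [h] at this
  apply one_ne_zero (α := F)
  linear_combination this - two_zero hG

theorem w_sq : ω * ω = ω + 1 := by
  linear_combination hG.eq - (ω + 1) * two_zero hG

theorem w_cube : ω ^ 3 = 1 := by
  linear_combination (ω - 1) * hG.eq

theorem cf_xor (a b a' b' : Bool) : cf ω (a ^^ a') (b ^^ b') = cf ω a b + cf ω a' b' := by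
  have h1 := add_self hG (1 : F)
  have hw := add_self hG ω
  cases a <;> cases a' <;> cases b <;> cases b' <;>
    simp [cf] <;> grind

theorem cf_inj {a b a' b' : Bool} (h : cf ω a b = cf ω a' b') : a = a' ∧ b = b' := by
  have h0 : cf ω (a ^^ a') (b ^^ b') = 0 := by rw [cf_xor hG, h, add_self hG]
  have key : ∀ x y, cf ω x y = 0 → x = false ∧ y = false := by
    intro x y hxy
    cases x <;> cases y <;> simp [cf] at hxy ⊢
    · exact w_ne_zero hG hxy
    · exact w_ne_one hG (by linear_combination hxy - two_zero hG)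
  obtain ⟨h1, h2⟩ := key _ _ h0
  cases a <;> cases a' <;> cases b <;> cases b' <;> simp_all

theorem val_xor (u v : ℕ) : val ω (u ^^^ v) = val ω u + val ω v := by
  funext z
  simp only [val, Pi.add_apply, Nat.testBit_xor, cf_xor hG]

theorem val_mw (v : ℕ) : val ω (mw v) = ω • val ω v := by
  funext z
  have h9 := idx_lt z
  have h511 : ∀ i, Nat.testBit 511 i = decide (i < 9) := fun i =>
    Nat.testBit_two_pow_sub_one 9 i
  have e1 : (mw v).testBit (idx z) = v.testBit (9 + idx z) := by
    simp only [mw, Nat.shiftRight_eq, Nat.shiftLeft_eq', Nat.testBit_or, Nat.testBit_and,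
      Nat.testBit_shiftRight, Nat.testBit_shiftLeft, h511, h9, decide_true, Bool.and_true,
      ge_iff_le, show ¬ 9 ≤ idx z by omega, decide_false, Bool.false_and, Bool.or_false]
  have e2 : (mw v).testBit (9 + idx z) = (v.testBit (idx z) ^^ v.testBit (9 + idx z)) := by
    simp only [mw, Nat.shiftRight_eq, Nat.shiftLeft_eq', Nat.testBit_or, Nat.testBit_and,
      Nat.testBit_shiftRight, Nat.testBit_shiftLeft, Nat.testBit_xor, h511,
      show ¬ 9 + idx z < 9 by omega, decide_false, Bool.and_false, Bool.false_or,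
      ge_iff_le, show 9 ≤ 9 + idx z by omega, decide_true, Bool.true_and,
      show 9 + idx z - 9 = idx z by omega, h9, Bool.and_true]
  simp only [val, Pi.smul_apply, smul_eq_mul, e1, e2]
  have hs := w_sq hG
  have h1 := add_self hG (1 : F)
  have hw := add_self hG ω
  cases v.testBit (idx z) <;> cases v.testBit (9 + idx z) <;>
    simp [cf] <;> grind

theorem val_pick (a b : Bool) (c : ℕ) : val ω (pick a b c) = cf ω a b • val ω c := by
  rw [pick, val_xor hG]
  cases a <;> cases b <;> simp [cf, val_zero, val_mw hG, add_smul]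

theorem val_app (M : List ℕ) (v : ℕ) : val ω (app M v) = toMat ω M *ᵥ val ω v := by
  have h : ∀ n, n ≤ 9 → val ω (appN M v n) =
      fun w => ∑ k ∈ range n, toMat ω M w (pt k) * val ω v (pt k) := by
    intro n
    induction n with
    | zero => intro _; funext w; simp [appN, val_zero]
    | succ n ih =>
      intro hn
      funext w
      rw [appN, val_xor hG, val_pick hG, ih (by omega), sum_range_succ]
      simp only [Pi.add_apply, Pi.smul_apply, smul_eq_mul, toMat_apply,
        idx_pt (show n < 9 by omega), mul_comm (cf ω _ _)]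
      simp only [val, idx_pt (show n < 9 by omega)]
  rw [app, h 9 le_rfl]
  funext w
  rw [mulVec, dotProduct, sum9]

theorem toMat_mm (M N : List ℕ) : toMat ω (mm M N) = toMat ω M * toMat ω N := by
  ext w z
  rw [toMat_apply, mm, List.getD_eq_getElem?_getD, List.getElem?_map,
    List.getElem?_range (idx_lt z)]
  simp only [Option.map_some, Option.getD_some, val_app hG, Matrix.mul_apply, mulVec, dotProduct]
  exact sum_congr rfl fun x _ => rfl

theorem toMat_idM : toMat ω idM = 1 := by
  ext w z
  have h : ∀ w z : F9, (idM.getD (idx z) 0).testBit (idx w) = decide (w = z) ∧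
      (idM.getD (idx z) 0).testBit (9 + idx w) = false := by decide +kernel
  rw [toMat_apply, val, (h w z).1, (h w z).2, Matrix.one_apply]
  by_cases e : w = z <;> simp [e, cf]

theorem val_inj {u v : ℕ} (hu : u < 2 ^ 18) (hv : v < 2 ^ 18) (h : val ω u = val ω v) : u = v := by
  refine Nat.eq_of_testBit_eq fun i => ?_
  by_cases hi : i < 9
  · have := (cf_inj hG (congrFun h (pt i))).1
    rwa [idx_pt hi] at this
  · by_cases hi2 : i < 18
    · have := (cf_inj hG (congrFun h (pt (i - 9)))).2
      rwa [idx_pt (by omega), show 9 + (i - 9) = i by omega] at this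
    · have p : 2 ^ 18 ≤ 2 ^ i := Nat.pow_le_pow_right (by norm_num) (by omega)
      rw [Nat.testBit_lt_two_pow (by omega), Nat.testBit_lt_two_pow (by omega)]

theorem val_surj (x : F9 → F) : ∃ v < 2 ^ 18, val ω v = x := by
  classical
  have hinj : Function.Injective (fun v : Fin (2 ^ 18) => val ω v.1) := fun u v h =>
    Fin.ext (val_inj hG u.2 v.2 h)
  have hb := (Fintype.bijective_iff_injective_and_card _).2 ⟨hinj, by
    rw [Fintype.card_fin, Fintype.card_fun, hG.card]; rfl⟩
  obtain ⟨v, hv⟩ := hb.2 x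
  exact ⟨v.1, v.2, hv⟩

theorem mw_lt (v : ℕ) : mw v < 2 ^ 18 := by
  refine Nat.lt_pow_two_of_testBit _ fun i hi => ?_
  have h511 : ∀ i, Nat.testBit 511 i = decide (i < 9) := fun i =>
    Nat.testBit_two_pow_sub_one 9 i
  simp only [mw, Nat.shiftRight_eq, Nat.shiftLeft_eq', Nat.testBit_or, Nat.testBit_and,
    Nat.testBit_shiftRight, Nat.testBit_shiftLeft, Nat.testBit_xor, h511,
    show ¬ i < 9 by omega, show ¬ i - 9 < 9 by omega, decide_false, Bool.and_false, Bool.xor_false,
    Bool.or_self]

theorem val_mw_mw (v : ℕ) : val ω (mw (mw v)) = ω ^ 2 • val ω v := by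
  rw [val_mw hG, val_mw hG, smul_smul, sq]

theorem mw_cube {v : ℕ} (hv : v < 2 ^ 18) : mw (mw (mw v)) = v := by
  refine val_inj hG (mw_lt hG _) hv ?_
  rw [val_mw hG, val_mw_mw hG, smul_smul, ← pow_succ', w_cube hG, one_smul]

theorem norm_cases (v : ℕ) : norm v = v ∨ norm v = mw v ∨ norm v = mw (mw v) := by
  rw [norm, nmin_eq, nmin_eq]
  rcases min_choice v (min (mw v) (mw (mw v))) with h | h <;> rw [h]
  · exact Or.inl rfl
  · rcases min_choice (mw v) (mw (mw v)) with h' | h' <;> rw [h'] <;> simp

theorem norm_mw {v : ℕ} (hv : v < 2 ^ 18) : norm (mw v) = norm v := by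
  rw [norm, norm, nmin_eq, nmin_eq, nmin_eq, nmin_eq, mw_cube hG hv]
  omega

/-- Codes of proportional vectors have the same normal form. -/
theorem norm_eq_of_smul {u v : ℕ} (hu : u < 2 ^ 18) (hv : v < 2 ^ 18) {c : F} (hc : c ≠ 0)
    (h : val ω u = c • val ω v) : norm u = norm v := by
  have hF : c = 1 ∨ c = ω ∨ c = ω ^ 2 := by
    obtain ⟨k, hk, e⟩ := val_surj hG (fun _ => c)
    have := congrFun e (pt 0)
    simp only [val, cf] at this
    rw [← this] at hc ⊢
    clear this e
    generalize k.testBit (idx (pt 0)) = a at hc ⊢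
    generalize k.testBit (9 + idx (pt 0)) = b at hc ⊢
    cases a <;> cases b <;> simp [sq, w_sq hG, add_comm] at hc ⊢
  rcases hF with rfl | rfl | rfl
  · rw [val_inj hG hu hv (by rw [h, one_smul])]
  · rw [val_inj hG hu (mw_lt hG v) (by rw [h, val_mw hG]), norm_mw hG hv]
  · rw [val_inj hG hu (mw_lt hG _) (by rw [h, val_mw_mw hG]), norm_mw hG (mw_lt hG v),
      norm_mw hG hv]

theorem exists_smul_norm (v : ℕ) : ∃ c : F, c ≠ 0 ∧ val ω (norm v) = c • val ω v := by
  rcases norm_cases hG v with h | h | h <;> rw [h]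
  · exact ⟨1, one_ne_zero, (one_smul _ _).symm⟩
  · exact ⟨ω, w_ne_zero hG, val_mw hG v⟩
  · exact ⟨ω ^ 2, pow_ne_zero 2 (w_ne_zero hG), val_mw_mw hG v⟩

end

end Cfsg.Agent.H15.J3
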