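import Cfsg.Agent.H15.J3.Code
import Cfsg.Agent.H16.CertArr

/-!
Faster evaluation of the matrix product, for the kernel.
-/

set_option autoImplicit false

namespace Cfsg.Agent.H15.J3

open Cfsg.Agent.H16

/-- `mw` only with primitives. -/
noncomputable def mwF (v : ℕ) : ℕ :=
  Nat.lor (Nat.land (Nat.shiftRight v 9) 511)
    (Nat.shiftLeft (Nat.xor (Nat.land v 511) (Nat.land (Nat.shiftRight v 9) 511)) 9)

/-- Scalar times column, added to an accumulator. -/
noncomputable def pickF (a b acc c : ℕ) : ℕ :=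
  Bool.rec
    (Bool.rec (Nat.xor (Nat.xor acc c) (mwF c)) (Nat.xor acc c) (Nat.beq b 0))
    (Bool.rec (Nat.xor acc (mwF c)) acc (Nat.beq b 0))
    (Nat.beq a 0)

/-- The image, with accumulator and shifted coefficients. -/
noncomputable def appR (M : List ℕ) : ℕ → ℕ → ℕ → ℕ :=
  List.rec (motive := fun _ => ℕ → ℕ → ℕ → ℕ) (fun acc _ _ => acc)
    (fun c _ ih acc a b => forceNat (pickF (Nat.land a 1) (Nat.land b 1) acc c) fun acc =>
      ih acc (Nat.shiftRight a 1) (Nat.shiftRight b 1)) M

/-- The image of `v`. -/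
noncomputable def appF (M : List ℕ) (v : ℕ) : ℕ := appR M 0 v (Nat.shiftRight v 9)

/-- The product. -/
noncomputable def mmF (M N : List ℕ) : List ℕ :=
  List.rec (motive := fun _ => List ℕ) [] (fun c _ ih => forceNat (appF M c) fun x => x :: ih) N

theorem mwF_eq (v : ℕ) : mwF v = mw v := rfl

theorem land_one_beq (a : ℕ) (n : ℕ) :
    Nat.beq (Nat.land (Nat.shiftRight a n) 1) 0 = !a.testBit n := by
  show Nat.beq ((a >>> n) &&& 1) 0 = _
  rw [Nat.testBit]
  rw [Nat.and_comm]
  cases h : (1 &&& (a >>> n)) with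
  | zero => rfl
  | succ k => rfl

theorem pickF_eq (v n acc c : ℕ) :
    pickF (Nat.land (Nat.shiftRight v n) 1) (Nat.land (Nat.shiftRight v (9 + n)) 1) acc c =
      acc ^^^ pick (v.testBit n) (v.testBit (9 + n)) c := by
  rw [pickF, land_one_beq, land_one_beq, pick, mwF_eq]
  show _ = _
  cases v.testBit n <;> cases v.testBit (9 + n) <;>
    simp only [Bool.not_true, Bool.not_false, cond_true, cond_false, Nat.zero_xor, Nat.xor_zero] <;>
    first | rfl | exact Nat.xor_assoc acc c (mw c)

theorem appR_cons (c : ℕ) (M : List ℕ) (acc a b : ℕ) :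
    appR (c :: M) acc a b =
      appR M (pickF (Nat.land a 1) (Nat.land b 1) acc c) (Nat.shiftRight a 1) (Nat.shiftRight b 1) :=
  forceNat_eq (pickF (Nat.land a 1) (Nat.land b 1) acc c) fun x =>
    appR M x (Nat.shiftRight a 1) (Nat.shiftRight b 1)

theorem appR_drop (M : List ℕ) (hM : M.length = 9) (v : ℕ) : ∀ m n, n + m = 9 →
    appR (M.drop n) (appN M v n) (Nat.shiftRight v n) (Nat.shiftRight v (9 + n)) = appN M v 9
  | 0, n, h => by
    obtain rfl : n = 9 := by omega
    rw [List.drop_of_length_le (by omega)]; rfl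
  | m + 1, n, h => by
    rw [List.drop_eq_getElem_cons (show n < M.length by omega)]
    rw [appR_cons, pickF_eq]
    have e : appN M v (n + 1) = appN M v n ^^^ pick (v.testBit n) (v.testBit (9 + n)) M[n] := by
      rw [appN, List.getD_eq_getElem M 0 (by omega)]
    have s : ∀ k, Nat.shiftRight (Nat.shiftRight v k) 1 = Nat.shiftRight v (k + 1) := fun k => rfl
    rw [← e, s, s, show 9 + n + 1 = 9 + (n + 1) by omega]
    exact appR_drop M hM v m (n + 1) (by omega)

theorem appF_eq {M : List ℕ} (hM : M.length = 9) (v : ℕ) : appF M v = app M v :=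
  appR_drop M hM v 9 0 rfl

theorem mmF_eq {M : List ℕ} (hM : M.length = 9) {N : List ℕ} (hN : N.length = 9) :
    mmF M N = mm M N := by
  have h : ∀ N : List ℕ, mmF M N = N.map (app M) := by
    intro N
    induction N with
    | nil => rfl
    | cons c N ih =>
      show forceNat (appF M c) (fun x => x :: mmF M N) = _
      rw [forceNat_eq, ih, appF_eq hM]; rfl
  rw [h, mm]
  refine List.ext_getElem (by simp [hN]) fun i h1 h2 => ?_
  rw [List.length_map] at h1
  simp [List.getElem?_eq_getElem h1]

end Cfsg.Agent.H15.J3
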