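import Cfsg.Agent.H15.J3.Group
import Cfsg.Agent.H15.J3.Fast

/-!
The double cosets are closed under the translation.
-/

set_option autoImplicit false

namespace Cfsg.Agent.H15.J3

open Cfsg.Spor Matrix Cfsg.Agent.H16

/-- A stabiliser element from its number. -/
def kCode (k : ℕ) : List ℕ := mm (dgc (k / 80)) (rrc (k % 80))

/-- The same, for the kernel. -/
noncomputable def kCodeF (k : ℕ) : List ℕ := mmF (dgc (Nat.div k 80)) (rrc (Nat.mod k 80))

theorem dgc_length : ∀ a : Fin 81, (dgc a).length = 9 := by decide +kernel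

theorem rrc_length : ∀ n : Fin 80, (rrc n).length = 9 := by decide +kernel

theorem repc_length : ∀ l : Fin 28, (repc l).length = 9 := by decide +kernel

theorem mm_length (M N : List ℕ) : (mm M N).length = 9 := by simp [mm]

theorem kCodeF_eq {k : ℕ} (hk : k < 6480) : kCodeF k = kCode k :=
  mmF_eq (dgc_length ⟨k / 80, Nat.div_lt_of_lt_mul (by omega)⟩)
    (rrc_length ⟨k % 80, Nat.mod_lt _ (by norm_num)⟩)

/-- The certificate equation. -/
noncomputable def dcheck (i : ℕ) : Bool :=
  forceNat (PArr.get 31 Data.dcert i) fun c =>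
    Nat.blt (bitField c 0 13) 6480 && Nat.blt (bitField c 13 5) 28 &&
      Nat.blt (bitField c 18 13) 6480 &&
      natListEq (mmF (mmF (g7 6) (rrc (Nat.div i 28))) (repc (Nat.mod i 28)))
        (mmF (kCodeF (bitField c 0 13))
          (mmF (repc (bitField c 13 5)) (kCodeF (bitField c 18 13))))

theorem dcheck_a : allFrom dcheck 560 0 = true := by decide +kernel

theorem dcheck_b : allFrom dcheck 560 560 = true := by decide +kernel

theorem dcheck_c : allFrom dcheck 560 1120 = true := by decide +kernel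

theorem dcheck_d : allFrom dcheck 560 1680 = true := by decide +kernel

theorem dcheck_all : ∀ i, i < 2240 → dcheck i = true :=
  allFrom_extend (allFrom_extend (allFrom_extend (allFrom_extend allFrom_nil dcheck_a) dcheck_b)
    dcheck_c) dcheck_d

section

variable {F : Type*} [Field F] [Fintype F] {ω : F} (hG : Good F ω)
include hG

theorem kCode_mem {k : ℕ} (hk : k < 6480) : toMat ω (kCode k) ∈ kSet F ω :=
  ⟨k / 80, Nat.div_lt_of_lt_mul (by omega), k % 80, Nat.mod_lt _ (by norm_num),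
    toMat_mm hG _ _⟩

theorem d_mul_uSet {x : Matrix F9 F9 F} (hx : x ∈ uSet F ω) :
    toMat ω (g7 6) * x ∈ uSet F ω := by
  obtain ⟨k, ⟨a, ha, n, hn, rfl⟩, l, hl, k', hk', rfl⟩ := hx
  obtain ⟨hb, hab⟩ := dgD_ok ⟨a, ha⟩
  have hc := dcheck_all (n * 28 + l) (by omega)
  rw [dcheck, forceNat_eq, Bool.and_eq_true, Bool.and_eq_true, Bool.and_eq_true,
    Nat.blt_eq, Nat.blt_eq, Nat.blt_eq, show Nat.div (n * 28 + l) 28 = n by
      show (n * 28 + l) / 28 = n
      omega,
    show Nat.mod (n * 28 + l) 28 = l by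
      show (n * 28 + l) % 28 = l
      omega] at hc
  obtain ⟨⟨⟨h1, h2⟩, h3⟩, he⟩ := hc
  rw [kCodeF_eq h1, kCodeF_eq h3, mmF_eq (M := g7 6) rfl (rrc_length ⟨n, hn⟩),
    mmF_eq (mm_length _ _) (repc_length ⟨l, hl⟩), mmF_eq (repc_length ⟨_, h2⟩) (N := kCode _) (mm_length _ _),
    mmF_eq (M := kCode _) (mm_length _ _) (mm_length _ _)] at he
  have he' := congrArg (toMat ω) (natListEq_eq he)
  simp only [toMat_mm hG] at he'
  have hd : toMat ω (dgc (Data.dgD.getD a 0)) ∈ kSet F ω :=
    ⟨_, hb, 0, by norm_num, by rw [first_ok.2.1, toMat_idM hG, mul_one]⟩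
  refine ⟨_, kSet_mul hG hd (kCode_mem hG h1), _, h2, _, kSet_mul hG (kCode_mem hG h3) hk', ?_⟩
  have hab' := congrArg (toMat ω) hab
  simp only [toMat_mm hG] at hab'
  simp only [mul_assoc] at he' ⊢
  rw [← mul_assoc (toMat ω (g7 6)) (toMat ω (dgc a)), hab']
  simp only [mul_assoc]
  congr 1
  rw [← mul_assoc (toMat ω (rrc n)), ← mul_assoc (toMat ω (g7 6))]
  rw [← mul_assoc (toMat ω (g7 6)) (toMat ω (rrc n)), ← mul_assoc] at he'
  simp only [← mul_assoc] at he' ⊢
  rw [he']

theorem k_mul_uSet {k x : Matrix F9 F9 F} (hk : k ∈ kSet F ω) (hx : x ∈ uSet F ω) :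
    k * x ∈ uSet F ω := by
  obtain ⟨k₁, h1, l, hl, k', hk', rfl⟩ := hx
  exact ⟨k * k₁, kSet_mul hG hk h1, l, hl, k', hk', by simp only [mul_assoc]⟩

theorem uSet_one : (1 : Matrix F9 F9 F) ∈ uSet F ω :=
  ⟨1, kSet_one hG, 0, by norm_num, 1, kSet_one hG,
    by rw [first_ok.2.2, toMat_idM hG, one_mul, one_mul]⟩

/-- Every element is in one of the double cosets. -/
theorem hSet_subset_uSet {x : Matrix F9 F9 F} (hx : x ∈ hSet F ω) : x ∈ uSet F ω := by
  obtain ⟨w, hw, rfl⟩ := hx
  induction w with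
  | nil => rw [toMat_ev_nil hG]; exact uSet_one hG
  | cons j w ih =>
    simp only [small, List.all_cons, Bool.and_eq_true, decide_eq_true_eq] at hw
    have h := ih (by simp only [small]; exact hw.2)
    rw [toMat_ev_cons hG]
    by_cases hj : j < 6
    · exact k_mul_uSet hG (g7_mem_kSet hG hj) h
    · obtain rfl : j = 6 := by omega
      exact d_mul_uSet hG h

end

end Cfsg.Agent.H15.J3
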