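/-!
Packed data for `3·J₃`: the defining generators.
-/

set_option autoImplicit false

namespace Cfsg.Agent.H15.J3.Data

def gA : List (List Nat) :=
  [[1,2,4,8,16,32,64,128,256],
  [1,1024,2052,8,8192,16416,64,65536,131328],
  [1,1026,2048,8,8208,16384,64,65664,131072],
  [1,2,4,4096,8192,16384,32832,65664,131328],
  [1,1024,2052,4096,8208,32,32832,128,131072],
  [1,1026,2048,4096,16,16416,32832,65536,256],
  [1,2,4,4104,8208,16416,32768,65536,131072],
  [1,1024,2052,4104,16,16384,32768,65664,256],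
  [1,1026,2048,4104,8192,32,32768,128,131328]]

def gE : List (List Nat) :=
  [[1,1024,2048,4096,8208,16416,32768,65664,131328],
  [512,2,2048,4104,8192,16416,32832,65536,131328],
  [512,1024,4,4104,8208,16384,32832,65664,131072],
  [512,1026,2052,8,8192,16384,32768,65664,131328],
  [513,1024,2052,4096,16,16384,32832,65536,131328],
  [513,1026,2048,4096,8192,32,32832,65664,131072],
  [512,1026,2052,4096,8208,16416,64,65536,131072],
  [513,1024,2052,4104,8192,16416,32768,128,131072],
  [513,1026,2048,4104,8208,16384,32768,65536,256]]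

def gD : List (List Nat) :=
  [[1,2,4,8,16,32,64,128,256],
  [2,4,1,16,16416,8,128,131072,64],
  [4,1,2,32,8,8192,256,64,65664],
  [8,16,32,64,65536,131328,1,2,4],
  [16,32,4096,128,256,64,1026,4,1],
  [32,4104,16,256,64,128,2048,1,2],
  [64,128,256,1,2,4,8,8208,16384],
  [128,256,32832,1024,4,1,16,32,8],
  [256,32768,128,2052,1,2,32,8,16]]

def gB : List (List Nat) :=
  [[1,2,4,8,16,32,64,128,256],
  [1,64,8,2,128,16,4,256,32],
  [1,8,64,4,32,256,2,16,128],
  [1,2,4,8,16,32,64,128,256],
  [1,128,32,16,4,64,256,8,2],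
  [1,16,256,32,64,2,128,4,8],
  [1,4,2,64,256,128,8,32,16],
  [1,256,16,128,8,4,32,2,64],
  [1,32,128,256,2,8,16,64,4]]

def gC : List (List Nat) :=
  [[1,2,4,8,16,32,64,128,256],
  [1,70,14,76,176,400,74,304,416],
  [1,14,70,74,416,304,76,400,176],
  [1,74,76,70,304,176,14,416,400],
  [1,400,304,416,70,76,176,74,14],
  [1,176,416,400,74,70,304,14,76],
  [1,76,74,14,400,416,70,176,304],
  [1,416,176,304,76,14,400,70,74],
  [1,304,400,176,14,74,416,76,70]]

end Cfsg.Agent.H15.J3.Data
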