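import Cfsg.Agent.H15.J3.Code
import Cfsg.Agent.H15.J3.GenData

/-!
The packed generators are the defining generators of `threeJ3`.
-/

set_option autoImplicit false

namespace Cfsg.Agent.H15.J3

open Cfsg.Spor Matrix

/-- The bits of `ω ^ n`. -/
def wBits (n : ZMod 3) : Bool × Bool :=
  if n = 0 then (true, false) else if n = 1 then (false, true) else (true, true)

/-- Zero or `x`. -/
def condBits (p : Bool) (x : Bool × Bool) : Bool × Bool := if p then x else (false, false)

/-- The bits of `j3Lam`. -/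
def lamBits (Z z : F9) : Bool × Bool :=
  if z = 0 then (true, false)
  else if F9.div Z z = F9.I - F9.one then (false, true)
  else if F9.div Z z = -F9.I - F9.one then (true, true)
  else (true, false)

/-- The bits of an entry of a packed matrix. -/
def entryBits (M : List ℕ) (w z : F9) : Bool × Bool :=
  ((M.getD (idx z) 0).testBit (idx w), (M.getD (idx z) 0).testBit (9 + idx w))

theorem bitsA : ∀ Z w z : F9, entryBits (Data.gA.getD (idx Z) []) w z =
    condBits (decide (w = z)) (wBits (Z.1 * z.1 + Z.2 * z.2)) := by decide +kernel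

theorem bitsE : ∀ Z w z : F9, entryBits (Data.gE.getD (idx Z) []) w z =
    condBits (decide (w = z)) (wBits ((Z.1 - z.1) ^ 2 + (Z.2 - z.2) ^ 2)) := by decide +kernel

theorem bitsD : ∀ Z w z : F9, entryBits (Data.gD.getD (idx Z) []) w z =
    condBits (decide (w = z + Z)) (lamBits Z z) := by decide +kernel

theorem bitsB : ∀ Z w z : F9, Z ≠ 0 → entryBits (Data.gB.getD (idx Z) []) w z =
    condBits (decide (w = F9.mul Z z)) (true, false) := by decide +kernel

theorem bitsC : ∀ Z w z : F9, Z ≠ 0 → entryBits (Data.gC.getD (idx Z) []) w z =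
    condBits (if z = 0 then decide (w = 0) else decide (w = -F9.div Z z ∨
      w = F9.mul F9.I (F9.div Z z) ∨ w = -F9.mul F9.I (F9.div Z z))) (true, false) := by
  decide +kernel

/-- All packed generators. -/
def allGens : List (List ℕ) :=
  Data.gA ++ Data.gE ++ Data.gD ++ Data.gB.drop 1 ++ Data.gC.drop 1

section

variable {F : Type*} [Field F] [Fintype F] {ω : F} (hG : Good F ω)
include hG

theorem cf_wBits (n : ZMod 3) : cf ω (wBits n).1 (wBits n).2 = omegaPow F ω n := by
  obtain rfl | rfl | rfl : n = 0 ∨ n = 1 ∨ n = 2 := by revert n; decide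
  · simp [wBits, cf, omegaPow]
  · simp [wBits, cf, omegaPow, ZMod.val_one]
  · rw [omegaPow, show ((2 : ZMod 3)).val = 2 from rfl, pow_two, w_sq hG]
    simp [wBits, cf, show (2 : ZMod 3) ≠ 0 by decide, show (2 : ZMod 3) ≠ 1 by decide, add_comm]

theorem cf_lamBits (Z z : F9) : cf ω (lamBits Z z).1 (lamBits Z z).2 = j3Lam F ω Z z := by
  rw [lamBits, j3Lam]
  split_ifs <;> simp [cf, pow_two, w_sq hG, add_comm]

theorem toMat_entry (M : List ℕ) (w z : F9) :
    toMat ω M w z = cf ω (entryBits M w z).1 (entryBits M w z).2 := rfl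

theorem toMat_gA (Z : F9) : toMat ω (Data.gA.getD (idx Z) []) = j3A F ω Z := by
  ext w z
  rw [toMat_entry hG, bitsA, j3A, Matrix.diagonal_apply]
  by_cases h : w = z
  · subst h; simp only [condBits, decide_true, if_true, cf_wBits hG]
  · simp [condBits, h, cf]

theorem toMat_gE (Z : F9) : toMat ω (Data.gE.getD (idx Z) []) = j3E F ω Z := by
  ext w z
  rw [toMat_entry hG, bitsE, j3E, Matrix.diagonal_apply]
  by_cases h : w = z
  · subst h; simp only [condBits, decide_true, if_true, cf_wBits hG]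
  · simp [condBits, h, cf]

theorem toMat_gD (Z : F9) : toMat ω (Data.gD.getD (idx Z) []) = j3D F ω Z := by
  ext w z
  rw [toMat_entry hG, bitsD, j3D, Matrix.of_apply]
  by_cases h : w = z + Z
  · simp only [condBits, h, decide_true, if_true, cf_lamBits hG]
  · simp [condBits, h, cf]

theorem toMat_gB {Z : F9} (hZ : Z ≠ 0) : toMat ω (Data.gB.getD (idx Z) []) = j3B F Z := by
  ext w z
  rw [toMat_entry hG, bitsB Z w z hZ, j3B, Matrix.of_apply]
  by_cases h : w = F9.mul Z z <;> simp [condBits, h, cf]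

theorem toMat_gC {Z : F9} (hZ : Z ≠ 0) : toMat ω (Data.gC.getD (idx Z) []) = j3C F Z := by
  ext w z
  rw [toMat_entry hG, bitsC Z w z hZ, j3C, Matrix.of_apply]
  by_cases h0 : z = 0
  · simp only [h0, if_true, condBits, decide_eq_true_eq]
    split_ifs <;> simp [cf]
  · simp only [h0, if_false, condBits, decide_eq_true_eq]
    split_ifs <;> simp [cf]

/-- Every packed generator is a defining generator. -/
theorem mem_gens_of_mem {M : List ℕ} (h : M ∈ allGens) : toMat ω M ∈ j3Gens F ω := by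
  have hi : ∀ L : List (List ℕ), L.length = 9 → ∀ M ∈ L, ∃ Z : F9, M = L.getD (idx Z) [] := by
    intro L hL M hM
    obtain ⟨i, hi, rfl⟩ := List.getElem_of_mem hM
    exact ⟨pt i, by rw [idx_pt (by omega), List.getD_eq_getElem?_getD, List.getElem?_eq_getElem hi]; rfl⟩
  have hd : ∀ L : List (List ℕ), L.length = 9 → ∀ M ∈ L.drop 1,
      ∃ Z : F9, Z ≠ 0 ∧ M = L.getD (idx Z) [] := by
    intro L hL M hM
    obtain ⟨i, hi, rfl⟩ := List.getElem_of_mem hM
    rw [List.length_drop] at hi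
    refine ⟨pt (1 + i), fun e => ?_, ?_⟩
    · have := congrArg idx e
      rw [idx_pt (by omega), show idx 0 = 0 from rfl] at this
      omega
    · rw [idx_pt (by omega), List.getD_eq_getElem?_getD, List.getElem?_eq_getElem (by omega),
        List.getElem_drop]; rfl
  simp only [allGens, List.mem_append] at h
  rcases h with (((h | h) | h) | h) | h
  · obtain ⟨Z, rfl⟩ := hi _ rfl _ h
    exact Or.inl (Or.inl (Or.inl (Or.inl ⟨Z, (toMat_gA hG Z).symm⟩)))
  · obtain ⟨Z, rfl⟩ := hi _ rfl _ h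
    exact Or.inl (Or.inl (Or.inl (Or.inr ⟨Z, (toMat_gE hG Z).symm⟩)))
  · obtain ⟨Z, rfl⟩ := hi _ rfl _ h
    exact Or.inl (Or.inl (Or.inr ⟨Z, (toMat_gD hG Z).symm⟩))
  · obtain ⟨Z, hZ, rfl⟩ := hd _ rfl _ h
    exact Or.inl (Or.inr ⟨Z, hZ, toMat_gB hG hZ⟩)
  · obtain ⟨Z, hZ, rfl⟩ := hd _ rfl _ h
    exact Or.inr ⟨Z, hZ, toMat_gC hG hZ⟩

/-- Every defining generator is a packed generator. -/
theorem exists_mem_of_gens {m : Matrix F9 F9 F} (h : m ∈ j3Gens F ω) :
    ∃ M ∈ allGens, toMat ω M = m := by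
  have hi : ∀ L : List (List ℕ), L.length = 9 → ∀ Z : F9, L.getD (idx Z) [] ∈ L := by
    intro L hL Z
    rw [List.getD_eq_getElem?_getD, List.getElem?_eq_getElem (by rw [hL]; exact idx_lt Z)]
    exact List.getElem_mem _
  have hd : ∀ L : List (List ℕ), L.length = 9 → ∀ Z : F9, Z ≠ 0 →
      L.getD (idx Z) [] ∈ L.drop 1 := by
    intro L hL Z hZ
    have h0 : idx Z ≠ 0 := fun e => hZ (by rw [← pt_idx Z, e]; rfl)
    have := idx_lt Z
    rw [List.mem_iff_getElem]
    refine ⟨idx Z - 1, by rw [List.length_drop]; omega, ?_⟩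
    rw [List.getD_eq_getElem?_getD, List.getElem?_eq_getElem (by omega), List.getElem_drop]
    simp only [show 1 + (idx Z - 1) = idx Z by omega]; rfl
  simp only [allGens, List.mem_append]
  rcases h with (((⟨Z, rfl⟩ | ⟨Z, rfl⟩) | ⟨Z, rfl⟩) | ⟨Z, hZ, rfl⟩) | ⟨Z, hZ, rfl⟩
  · exact ⟨_, Or.inl (Or.inl (Or.inl (Or.inl (hi _ rfl Z)))), toMat_gA hG Z⟩
  · exact ⟨_, Or.inl (Or.inl (Or.inl (Or.inr (hi _ rfl Z)))), toMat_gE hG Z⟩
  · exact ⟨_, Or.inl (Or.inl (Or.inr (hi _ rfl Z))), toMat_gD hG Z⟩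
  · exact ⟨_, Or.inl (Or.inr (hd _ rfl Z hZ)), toMat_gB hG hZ⟩
  · exact ⟨_, Or.inr (hd _ rfl Z hZ), toMat_gC hG hZ⟩

end

end Cfsg.Agent.H15.J3
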