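import Cfsg.Agent.H15.J3.Gens
import Cfsg.Agent.H15.J3.Data

/-!
`3·J₃` as a set of double cosets of the stabiliser of the base line.
-/

set_option autoImplicit false

namespace Cfsg.Agent.H15.J3

open Cfsg.Spor Matrix Cfsg.Agent.H16

/-- Evaluate a word. -/
def ev (gs : List (List ℕ)) : List ℕ → List ℕ
  | [] => idM
  | j :: w => mm (gs.getD j []) (ev gs w)

/-- All letters are below `n`. -/
def small (n : ℕ) (w : List ℕ) : Bool := w.all fun j => decide (j < n)

/-- The packed seven generators as a function. -/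
def g7 (j : ℕ) : List ℕ := Data.gen7.getD j []
def dgc (a : ℕ) : List ℕ := Data.dg.getD a []
def rrc (n : ℕ) : List ℕ := Data.rr.getD n []
def repc (l : ℕ) : List ℕ := Data.reps.getD l []

theorem inv_ok : ∀ j : Fin 7, mm (g7 j) (Data.gen7Inv.getD j []) = idM ∧
    mm (Data.gen7Inv.getD j []) (g7 j) = idM := by decide +kernel

theorem gen7W_ok : ∀ j : Fin 7, small 43 (Data.gen7W.getD j []) = true ∧
    ev allGens (Data.gen7W.getD j []) = g7 j := by decide +kernel

theorem allW_ok : ∀ i : Fin 43, small 7 (Data.allW.getD i []) = true ∧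
    ev Data.gen7 (Data.allW.getD i []) = allGens.getD i [] := by decide +kernel

theorem allGens_length : allGens.length = 43 := by decide +kernel

theorem dgW_ok : ∀ a : Fin 81, small 4 (Data.dgW.getD a []) = true ∧
    ev Data.gen7 (Data.dgW.getD a []) = dgc a := by decide +kernel

theorem dgMul_ok : ∀ a : Fin 81, ∀ s : Fin 4, Data.dgMul.getD (a * 4 + s) 0 < 81 ∧
    mm (dgc a) (g7 s) = dgc (Data.dgMul.getD (a * 4 + s) 0) := by decide +kernel

theorem dgD_ok : ∀ a : Fin 81, Data.dgD.getD a 0 < 81 ∧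
    mm (g7 6) (dgc a) = mm (dgc (Data.dgD.getD a 0)) (g7 6) := by decide +kernel

theorem rrW_ok : ∀ n : Fin 80, small 6 (Data.rrW.getD n []) = true ∧
    ev Data.gen7 (Data.rrW.getD n []) = rrc n := by decide +kernel

theorem rrMul_ok : ∀ n : Fin 80, ∀ s : Fin 6,
    Data.rrMul.getD (n * 6 + s) 0 < 6480 ∧ mm (rrc n) (g7 s) =
      mm (dgc (Data.rrMul.getD (n * 6 + s) 0 / 80)) (rrc (Data.rrMul.getD (n * 6 + s) 0 % 80)) := by
  decide +kernel

theorem repsW_ok : ∀ l : Fin 28, small 7 (Data.repsW.getD l []) = true ∧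
    ev Data.gen7 (Data.repsW.getD l []) = repc l := by decide +kernel

theorem first_ok : dgc 0 = idM ∧ rrc 0 = idM ∧ repc 0 = idM := by decide +kernel

section

variable (F : Type*) [Field F] (ω : F)

/-- Matrices of words in the seven generators. -/
def hSet : Set (Matrix F9 F9 F) := {m | ∃ w, small 7 w = true ∧ m = toMat ω (ev Data.gen7 w)}

/-- The stabiliser of the base line. -/
def kSet : Set (Matrix F9 F9 F) :=
  {m | ∃ a < 81, ∃ n < 80, m = toMat ω (dgc a) * toMat ω (rrc n)}

/-- The double cosets. -/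
def uSet : Set (Matrix F9 F9 F) :=
  {m | ∃ k ∈ kSet F ω, ∃ l < 28, ∃ k' ∈ kSet F ω, m = k * toMat ω (repc l) * k'}

end

section

variable {F : Type*} [Field F] [Fintype F] {ω : F} (hG : Good F ω)
include hG

theorem toMat_ev_nil (gs : List (List ℕ)) : toMat ω (ev gs []) = 1 := toMat_idM hG

theorem toMat_ev_cons (gs : List (List ℕ)) (j : ℕ) (w : List ℕ) :
    toMat ω (ev gs (j :: w)) = toMat ω (gs.getD j []) * toMat ω (ev gs w) := toMat_mm hG _ _

theorem toMat_ev_append (gs : List (List ℕ)) (u w : List ℕ) :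
    toMat ω (ev gs (u ++ w)) = toMat ω (ev gs u) * toMat ω (ev gs w) := by
  induction u with
  | nil => rw [List.nil_append, toMat_ev_nil hG, one_mul]
  | cons j u ih => rw [List.cons_append, toMat_ev_cons hG, toMat_ev_cons hG, ih, mul_assoc]

theorem hSet_one : (1 : Matrix F9 F9 F) ∈ hSet F ω := ⟨[], rfl, (toMat_ev_nil hG _).symm⟩

theorem hSet_mul {x y : Matrix F9 F9 F} (hx : x ∈ hSet F ω) (hy : y ∈ hSet F ω) :
    x * y ∈ hSet F ω := by
  obtain ⟨u, hu, rfl⟩ := hx
  obtain ⟨w, hw, rfl⟩ := hy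
  refine ⟨u ++ w, ?_, (toMat_ev_append hG _ u w).symm⟩
  simp only [small, List.all_append, Bool.and_eq_true] at hu hw ⊢
  exact ⟨hu, hw⟩

theorem g7_mem_hSet {j : ℕ} (hj : j < 7) : toMat ω (g7 j) ∈ hSet F ω :=
  ⟨[j], by simp [small, hj], by rw [toMat_ev_cons hG, toMat_ev_nil hG, mul_one]; rfl⟩

theorem ev_mem_hSet {n : ℕ} (hn : n ≤ 7) {w : List ℕ} (hw : small n w = true) :
    toMat ω (ev Data.gen7 w) ∈ hSet F ω := by
  refine ⟨w, ?_, rfl⟩
  simp only [small, List.all_eq_true, decide_eq_true_eq] at hw ⊢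
  intro j hj
  have := hw j hj
  omega

/-- The matrices of `threeJ3` are the words. -/
theorem mem_threeJ3_iff (g : GL F9 F) :
    g ∈ threeJ3 F ω ↔ (g : Matrix F9 F9 F) ∈ hSet F ω := by
  constructor
  · intro hg
    rw [threeJ3, ← Subgroup.mem_toSubmonoid, Subgroup.closure_toSubmonoid_of_finite] at hg
    induction hg using Submonoid.closure_induction with
    | mem x hx =>
      obtain ⟨M, hM, e⟩ := exists_mem_of_gens hG hx
      obtain ⟨i, hi, rfl⟩ := List.getElem_of_mem hM
      have hi' : i < 43 := allGens_length ▸ hi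
      have h := allW_ok ⟨i, hi'⟩
      rw [List.getD_eq_getElem allGens [] hi] at h
      rw [← e, ← h.2]
      exact ev_mem_hSet hG le_rfl h.1
    | one => rw [Units.val_one]; exact hSet_one hG
    | mul x y _ _ hx hy => rw [Units.val_mul]; exact hSet_mul hG hx hy
  · rintro ⟨w, hw, e⟩
    induction w generalizing g with
    | nil =>
      rw [toMat_ev_nil hG, ← Units.val_one] at e
      rw [Units.ext e]; exact one_mem _
    | cons j w ih =>
      simp only [small, List.all_cons, Bool.and_eq_true, decide_eq_true_eq] at hw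
      rw [toMat_ev_cons hG] at e
      let u : GL F9 F := ⟨toMat ω (g7 j), toMat ω (Data.gen7Inv.getD j []),
        by rw [← toMat_mm hG, (inv_ok ⟨j, hw.1⟩).1, toMat_idM hG],
        by rw [← toMat_mm hG, (inv_ok ⟨j, hw.1⟩).2, toMat_idM hG]⟩
      have hu : u ∈ threeJ3 F ω := by
        have h := gen7W_ok ⟨j, hw.1⟩
        have key : ∀ (v : List ℕ) (x : GL F9 F), small 43 v = true →
            (x : Matrix F9 F9 F) = toMat ω (ev allGens v) → x ∈ threeJ3 F ω := by
          intro v
          induction v with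
          | nil =>
            intro x _ ex
            rw [toMat_ev_nil hG, ← Units.val_one] at ex
            rw [Units.ext ex]; exact one_mem _
          | cons i v iv =>
            intro x hv ex
            simp only [small, List.all_cons, Bool.and_eq_true, decide_eq_true_eq] at hv
            rw [toMat_ev_cons hG] at ex
            have hi : i < allGens.length := allGens_length.symm ▸ hv.1
            have hm : toMat ω (allGens.getD i []) ∈ j3Gens F ω := by
              rw [List.getD_eq_getElem allGens [] hi]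
              exact mem_gens_of_mem hG (List.getElem_mem hi)
            have hunit : IsUnit (toMat ω (allGens.getD i [])) := by
              rw [Matrix.isUnit_iff_isUnit_det]
              have := (Matrix.isUnit_iff_isUnit_det _).1 x.isUnit
              rw [ex, Matrix.det_mul] at this
              exact isUnit_of_mul_isUnit_left this
            obtain ⟨y, hy⟩ := hunit
            have hy' : y ∈ threeJ3 F ω := Subgroup.subset_closure (by
              show (y : Matrix F9 F9 F) ∈ j3Gens F ω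
              rw [hy]; exact hm)
            have hz : y⁻¹ * x ∈ threeJ3 F ω := iv _ (by simp only [small]; exact hv.2) (by
              rw [Units.val_mul, ex, ← hy, Units.inv_mul_cancel_left])
            have := mul_mem hy' hz
            rwa [mul_inv_cancel_left] at this
        exact key _ u h.1 (by rw [h.2])
      have hrest : u⁻¹ * g ∈ threeJ3 F ω := ih _ (by simp only [small]; exact hw.2) (by
        rw [Units.val_mul, e]
        exact Units.inv_mul_cancel_left u _)
      have := mul_mem hu hrest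
      rwa [mul_inv_cancel_left] at this

theorem dg_mem_hSet {a : ℕ} (ha : a < 81) : toMat ω (dgc a) ∈ hSet F ω := by
  have h := dgW_ok ⟨a, ha⟩
  rw [← h.2]; exact ev_mem_hSet hG (by norm_num) h.1

theorem rr_mem_hSet {n : ℕ} (hn : n < 80) : toMat ω (rrc n) ∈ hSet F ω := by
  have h := rrW_ok ⟨n, hn⟩
  rw [← h.2]; exact ev_mem_hSet hG (by norm_num) h.1

theorem rep_mem_hSet {l : ℕ} (hl : l < 28) : toMat ω (repc l) ∈ hSet F ω := by
  have h := repsW_ok ⟨l, hl⟩
  rw [← h.2]; exact ev_mem_hSet hG le_rfl h.1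

theorem kSet_subset {k : Matrix F9 F9 F} (hk : k ∈ kSet F ω) : k ∈ hSet F ω := by
  obtain ⟨a, ha, n, hn, rfl⟩ := hk
  exact hSet_mul hG (dg_mem_hSet hG ha) (rr_mem_hSet hG hn)

theorem dg_mul {a b : ℕ} (ha : a < 81) (hb : b < 81) :
    ∃ c < 81, toMat ω (dgc a) * toMat ω (dgc b) = toMat ω (dgc c) := by
  have h := dgW_ok ⟨b, hb⟩
  rw [← h.2]
  have key : ∀ w, small 4 w = true → ∀ a < 81, ∃ c < 81,
      toMat ω (dgc a) * toMat ω (ev Data.gen7 w) = toMat ω (dgc c) := by
    intro w
    induction w with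
    | nil => intro _ a ha; exact ⟨a, ha, by rw [toMat_ev_nil hG, mul_one]⟩
    | cons j w ih =>
      intro hw a ha
      simp only [small, List.all_cons, Bool.and_eq_true, decide_eq_true_eq] at hw
      obtain ⟨hlt, heq⟩ := dgMul_ok ⟨a, ha⟩ ⟨j, hw.1⟩
      obtain ⟨c, hc, ec⟩ := ih (by simp only [small]; exact hw.2) _ hlt
      refine ⟨c, hc, ?_⟩
      rw [toMat_ev_cons hG, ← mul_assoc]
      show toMat ω (dgc a) * toMat ω (g7 j) * _ = _
      rw [← toMat_mm hG, heq]; exact ec
  exact key _ h.1 a ha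

theorem kSet_one : (1 : Matrix F9 F9 F) ∈ kSet F ω :=
  ⟨0, by norm_num, 0, by norm_num, by rw [first_ok.1, first_ok.2.1, toMat_idM hG, one_mul]⟩

theorem kSet_mul {x y : Matrix F9 F9 F} (hx : x ∈ kSet F ω) (hy : y ∈ kSet F ω) :
    x * y ∈ kSet F ω := by
  have key : ∀ w, small 6 w = true → ∀ x ∈ kSet F ω, x * toMat ω (ev Data.gen7 w) ∈ kSet F ω := by
    intro w
    induction w with
    | nil => intro _ x hx; rwa [toMat_ev_nil hG, mul_one]
    | cons j w ih =>
      intro hw x hx
      simp only [small, List.all_cons, Bool.and_eq_true, decide_eq_true_eq] at hw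
      rw [toMat_ev_cons hG, ← mul_assoc]
      refine ih (by simp only [small]; exact hw.2) _ ?_
      obtain ⟨a, ha, n, hn, rfl⟩ := hx
      obtain ⟨hlt, heq⟩ := rrMul_ok ⟨n, hn⟩ ⟨j, hw.1⟩
      obtain ⟨c, hc, ec⟩ := dg_mul hG ha (Nat.div_lt_of_lt_mul (by omega) :
        Data.rrMul.getD (n * 6 + j) 0 / 80 < 81)
      refine ⟨c, hc, _, Nat.mod_lt (Data.rrMul.getD (n * 6 + j) 0) (by norm_num : 80 > 0), ?_⟩
      show toMat ω (dgc a) * toMat ω (rrc n) * toMat ω (g7 j) = _
      rw [mul_assoc, ← toMat_mm hG, heq, toMat_mm hG, ← mul_assoc, ec]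
  obtain ⟨b, hb, m, hm, rfl⟩ := hy
  rw [← (dgW_ok ⟨b, hb⟩).2, ← (rrW_ok ⟨m, hm⟩).2, ← mul_assoc]
  have hw : small 6 (Data.dgW.getD b []) = true := by
    have := (dgW_ok ⟨b, hb⟩).1
    simp only [small, List.all_eq_true, decide_eq_true_eq] at this ⊢
    intro j hj
    have := this j hj
    omega
  exact key _ (rrW_ok ⟨m, hm⟩).1 _ (key _ hw x hx)

theorem g7_mem_kSet {j : ℕ} (hj : j < 6) : toMat ω (g7 j) ∈ kSet F ω := by
  obtain ⟨hlt, heq⟩ := rrMul_ok 0 ⟨j, hj⟩
  simp only [Fin.val_zero, first_ok.2.1] at heq hlt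
  refine ⟨_, Nat.div_lt_of_lt_mul (by omega : Data.rrMul.getD (0 * 6 + j) 0 < 80 * 81), _,
    Nat.mod_lt (Data.rrMul.getD (0 * 6 + j) 0) (by norm_num : 80 > 0), ?_⟩
  rw [← toMat_mm hG, ← heq, toMat_mm hG, toMat_idM hG, one_mul]

end

end Cfsg.Agent.H15.J3
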