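import Cfsg.Agent.H15.J3.Sweep

/-!
The first half of the sweep.
-/

set_option autoImplicit false

namespace Cfsg.Agent.H15.J3

open Cfsg.Agent.H16

theorem sweep0 : allFrom sweepBlock 64 0 = true := by decide +kernel

theorem sweep1 : allFrom sweepBlock 64 64 = true := by decide +kernel

end Cfsg.Agent.H15.J3
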