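import Cfsg.Agent.H15.J3.Sweep

/-!
The number of labels one.
-/

set_option autoImplicit false

namespace Cfsg.Agent.H15.J3

open Cfsg.Agent.H16

theorem one_count : oneBlocks 256 0 = 23256 := by decide +kernel

end Cfsg.Agent.H15.J3
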