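import Cfsg.Agent.H15.J3.Stab
import Cfsg.Agent.H15.J3.SweepA
import Cfsg.Agent.H15.J3.SweepB
import Cfsg.Agent.H15.J3.SweepC

/-!
The orbit of the base line, and the order of `3·J₃`.
-/

set_option autoImplicit false

namespace Cfsg.Agent.H15.J3

open Cfsg.Spor Matrix Cfsg.Agent.H16

theorem normF_eq (v : ℕ) : normF v = norm v := by
  simp only [normF, forceNat_eq, mwF_eq, norm, nmin]
  cases Nat.ble (mw v) (mw (mw v)) <;>
    simp only [cond_true, cond_false] <;> cases Nat.ble v _ <;> rfl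

theorem pick_xor (a b a' b' : Bool) (c : ℕ) :
    pick (a ^^ a') (b ^^ b') c = pick a b c ^^^ pick a' b' c := by
  cases a <;> cases b <;> cases a' <;> cases b' <;>
    simp [pick, Nat.xor_assoc, Nat.xor_comm, Nat.xor_left_comm, Nat.xor_self]

theorem app_xor (M : List ℕ) (u v : ℕ) : app M (u ^^^ v) = app M u ^^^ app M v := by
  have h : ∀ n, appN M (u ^^^ v) n = appN M u n ^^^ appN M v n := by
    intro n
    induction n with
    | zero => simp [appN]
    | succ n ih =>
      simp only [appN, ih, Nat.testBit_xor, pick_xor]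
      simp [Nat.xor_assoc, Nat.xor_comm, Nat.xor_left_comm]
  exact h 9

/-- Index of a step among the seven generators. -/
def stepIdx (j : ℕ) : ℕ := [0, 4, 5, 6].getD j 0

theorem steps_ok : ∀ j : Fin 4, (Data.steps.getD j []).length = 6 ∧
    ∀ k : Fin 6, ∀ c : Fin 8,
      chunk ((Data.steps.getD j []).getD k 0) c = app (g7 (stepIdx j)) (c.1 * 2 ^ (3 * k.1)) := by
  decide +kernel

theorem chunk_mod (t v : ℕ) : chunk t v = chunk t (v % 8) := by
  unfold chunk
  show Nat.land (Nat.shiftRight t (Nat.mul (v &&& 7) 18)) _ =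
    Nat.land (Nat.shiftRight t (Nat.mul ((v % 8) &&& 7) 18)) _
  rw [show (7 : ℕ) = 2 ^ 3 - 1 from rfl, Nat.and_two_pow_sub_one_eq_mod,
    Nat.and_two_pow_sub_one_eq_mod, show (2 : ℕ) ^ 3 = 8 from rfl, Nat.mod_mod]

theorem stepApp_eq {j v : ℕ} (hj : j < 4) (hv : v < 2 ^ 18) :
    stepApp j v = app (g7 (stepIdx j)) v := by
  obtain ⟨hlen, hc⟩ := steps_ok ⟨j, hj⟩
  have key : ∀ (m k : ℕ), k + m = 6 → ∀ u, u < 2 ^ (3 * m) →
      tabApp ((Data.steps.getD j []).drop k) u = app (g7 (stepIdx j)) (u * 2 ^ (3 * k)) := by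
    intro m
    induction m with
    | zero =>
      intro k hk u hu
      obtain rfl : k = 6 := by omega
      obtain rfl : u = 0 := by simpa using hu
      rw [List.drop_of_length_le (le_of_eq hlen), Nat.zero_mul]
      simp [app, appN, pick, tabApp]
    | succ m ih =>
      intro k hk u hu
      rw [List.drop_eq_getElem_cons (show k < (Data.steps.getD j []).length by simp only [hlen]; omega)]
      show Nat.xor (chunk _ u) (tabApp _ (Nat.shiftRight u 3)) = _
      have h8 : u / 8 < 2 ^ (3 * m) := by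
        rw [Nat.div_lt_iff_lt_mul (by norm_num)]
        rw [show 3 * (m + 1) = 3 * m + 3 by omega, pow_add] at hu
        exact hu
      rw [show Nat.shiftRight u 3 = u / 8 from Nat.shiftRight_eq_div_pow u 3, ih (k + 1) (by omega) _ h8,
        chunk_mod]
      have hk' := hc ⟨k, by omega⟩ ⟨u % 8, Nat.mod_lt _ (by norm_num)⟩
      rw [List.getD_eq_getElem _ _ (show k < (Data.steps.getD j []).length by simp only [hlen]; omega)] at hk'
      rw [hk']
      show app _ _ ^^^ app _ _ = _
      rw [← app_xor]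
      congr 1
      apply Nat.eq_of_testBit_eq
      intro i
      rw [Nat.testBit_xor, show 3 * (k + 1) = 3 * k + 3 by omega]
      simp only [Nat.testBit_mul_two_pow, show u % 8 = u % 2 ^ 3 from rfl,
        show u / 8 = u / 2 ^ 3 from rfl, Nat.testBit_mod_two_pow, Nat.testBit_div_two_pow]
      by_cases h1 : 3 * k + 3 ≤ i
      · simp [h1, show 3 * k ≤ i by omega, show ¬ i - 3 * k < 3 by omega,
          show i - (3 * k + 3) + 3 = i - 3 * k by omega]
      · by_cases h2 : 3 * k ≤ i
        · simp [h1, h2, show i - 3 * k < 3 by omega]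
        · simp [h1, h2]
  have := key 6 0 rfl v hv
  simpa [stepApp] using this

theorem sweep_all {v : ℕ} (hv : v < 2 ^ 18) : sweepCheck v = true := by
  have hb := allFrom_extend (allFrom_extend (allFrom_extend (allFrom_extend allFrom_nil sweep0)
    sweep1) sweep2) sweep3 (v / 1024) (by omega)
  refine allFrom_spec hb v ?_ ?_
  · show v / 1024 * 1024 ≤ v
    omega
  · show v < v / 1024 * 1024 + 1024
    omega

/-- The label of a vector. -/
noncomputable def lab (v : ℕ) : ℕ := elab3 (entry v)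

theorem app_bound {M : List ℕ} (hM : ∀ c ∈ M, c < 2 ^ 18) (v : ℕ) : app M v < 2 ^ 18 := by
  have hp : ∀ a b c, c < 2 ^ 18 → pick a b c < 2 ^ 18 := by
    intro a b c hc
    have hmw : mw c < 2 ^ 18 := by
      refine Nat.lt_pow_two_of_testBit _ fun i hi => ?_
      have h511 : ∀ i, Nat.testBit 511 i = decide (i < 9) := fun i =>
        Nat.testBit_two_pow_sub_one 9 i
      simp only [mw, Nat.shiftRight_eq, Nat.shiftLeft_eq', Nat.testBit_or, Nat.testBit_and,
        Nat.testBit_shiftRight, Nat.testBit_shiftLeft, Nat.testBit_xor, h511,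
        show ¬ i < 9 by omega, show ¬ i - 9 < 9 by omega, decide_false, Bool.and_false,
        Bool.xor_false, Bool.or_self]
    cases a <;> cases b <;> simp only [pick, cond_true, cond_false] <;>
      exact Nat.xor_lt_two_pow (by first | exact hc | exact Nat.two_pow_pos _)
        (by first | exact hmw | exact Nat.two_pow_pos _)
  have h : ∀ n, appN M v n < 2 ^ 18 := by
    intro n
    induction n with
    | zero => exact Nat.two_pow_pos _
    | succ n ih =>
      refine Nat.xor_lt_two_pow ih (hp _ _ _ ?_)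
      by_cases hn : n < M.length
      · rw [List.getD_eq_getElem _ _ hn]; exact hM _ (List.getElem_mem hn)
      · rw [List.getD_eq_default _ _ (by omega)]; exact Nat.two_pow_pos _
  exact h 9

theorem g7_bound : ∀ j : Fin 7, ∀ c ∈ g7 j, c < 2 ^ 18 := by decide +kernel

theorem repc_bound : ∀ l : Fin 28, ∀ c ∈ repc l, c < 2 ^ 18 := by decide +kernel

theorem rep_lab : ∀ l : Fin 28, lab (norm (app (repc l) 1)) = 1 := by decide +kernel

/-- The other base points are not in the orbit of the first. -/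
noncomputable def otherCheck (i : ℕ) : Bool :=
  forceNat (elab3 (entry (normF (appF (kCodeF i) 73)))) fun a =>
    forceNat (elab3 (entry (normF (appF (kCodeF i) 72)))) fun b =>
      !(Nat.beq a 1) && !(Nat.beq b 1)

theorem other_a : allFrom otherCheck 2160 0 = true := by decide +kernel

theorem other_b : allFrom otherCheck 2160 2160 = true := by decide +kernel

theorem other_c : allFrom otherCheck 2160 4320 = true := by decide +kernel

theorem other_all {i : ℕ} (hi : i < 6480) :
    lab (norm (app (kCode i) 73)) ≠ 1 ∧ lab (norm (app (kCode i) 72)) ≠ 1 := by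
  have h := allFrom_extend (allFrom_extend (allFrom_extend allFrom_nil other_a) other_b) other_c i hi
  rw [otherCheck, forceNat_eq, forceNat_eq, kCodeF_eq hi, normF_eq, normF_eq,
    appF_eq (M := kCode i) (mm_length _ _), appF_eq (M := kCode i) (mm_length _ _),
    Bool.and_eq_true, Bool.not_eq_true', Bool.not_eq_true'] at h
  exact ⟨fun e => absurd h.1 (by rw [show elab3 (entry (norm (app (kCode i) 73))) = 1 from e]; decide),
    fun e => absurd h.2 (by rw [show elab3 (entry (norm (app (kCode i) 72))) = 1 from e]; decide)⟩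

theorem stepIdx_lt : ∀ j : Fin 4, stepIdx j < 7 := by decide

theorem oneBlocks_spec : ∀ n b, oneBlocks n b = countFrom isOne (n * 1024) (b * 1024)
  | 0, b => by simp [oneBlocks, countFrom]
  | n + 1, b => by
    show forceNat (countFrom isOne 1024 (b * 1024)) (fun c => c + oneBlocks n (b + 1)) = _
    rw [forceNat_eq, oneBlocks_spec n (b + 1), show (n + 1) * 1024 = 1024 + n * 1024 by ring,
      countFrom_add, show (b + 1) * 1024 = b * 1024 + 1024 by ring]

section

variable {F : Type*} [Field F] [Fintype F] {ω : F} (hG : Good F ω)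
include hG

theorem norm_lt {v : ℕ} (hv : v < 2 ^ 18) : norm v < 2 ^ 18 := by
  rcases norm_cases hG v with h | h | h <;> rw [h]
  exacts [hv, mw_lt hG v, mw_lt hG _]

theorem norm_idem {v : ℕ} (hv : v < 2 ^ 18) : norm (norm v) = norm v := by
  obtain ⟨c, hc, e⟩ := exists_smul_norm hG v
  exact norm_eq_of_smul hG (norm_lt hG hv) hv hc e

theorem val_ne_zero {v : ℕ} (hv : v < 2 ^ 18) (h0 : v ≠ 0) : val ω v ≠ 0 := fun h =>
  h0 (val_inj hG hv (by norm_num) (by rw [h, val_zero]))

theorem isUnit_hSet {m : Matrix F9 F9 F} (hm : m ∈ hSet F ω) :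
    ∃ g : GL F9 F, g ∈ threeJ3 F ω ∧ (g : Matrix F9 F9 F) = m := by
  obtain ⟨w, hw, rfl⟩ := hm
  have hu : IsUnit (toMat ω (ev Data.gen7 w)) := by
    induction w with
    | nil => rw [toMat_ev_nil hG]; exact isUnit_one
    | cons j w ih =>
      simp only [small, List.all_cons, Bool.and_eq_true, decide_eq_true_eq] at hw
      rw [toMat_ev_cons hG]
      exact IsUnit.mul ⟨⟨toMat ω (g7 j), toMat ω (Data.gen7Inv.getD j []),
        by rw [← toMat_mm hG, (inv_ok ⟨j, hw.1⟩).1, toMat_idM hG],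
        by rw [← toMat_mm hG, (inv_ok ⟨j, hw.1⟩).2, toMat_idM hG]⟩, rfl⟩
        (ih (by simp only [small]; exact hw.2))
  exact ⟨hu.unit, (mem_threeJ3_iff hG _).2 ⟨w, hw, hu.unit_spec⟩, hu.unit_spec⟩

theorem inv_mem_kSet {g : GL F9 F} (hg : (g : Matrix F9 F9 F) ∈ kSet F ω) :
    ((g⁻¹ : GL F9 F) : Matrix F9 F9 F) ∈ kSet F ω := by
  haveI : Finite (GL F9 F) := inferInstance
  obtain ⟨n, hn⟩ : ∃ n : ℕ, g⁻¹ = g ^ n :=
    ⟨Monoid.exponent (GL F9 F) - 1, by
      rw [inv_eq_of_mul_eq_one_left]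
      rw [← pow_succ, Nat.sub_add_cancel
        (Nat.one_le_iff_ne_zero.2 Monoid.exponent_ne_zero_of_finite), Monoid.pow_exponent_eq_one]⟩
  rw [hn]
  clear hn
  induction n with
  | zero => rw [pow_zero, Units.val_one]; exact kSet_one hG
  | succ n ih => rw [pow_succ, Units.val_mul]; exact kSet_mul hG ih hg

/-- Every vector in normal form reduces to a base point of its label. -/
theorem reduce : ∀ (d v : ℕ), edist (entry v) ≤ d → v < 2 ^ 18 → v ≠ 0 → norm v = v →
    0 < lab v ∧ lab v < 4 ∧ (lab v = 3 ↔ oddWt v = false) ∧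
      ∃ g ∈ threeJ3 F ω, ∃ c : F, c ≠ 0 ∧
        (g : Matrix F9 F9 F) *ᵥ val ω v = c • val ω (basePt (lab v)) := by
  intro d
  induction d using Nat.strong_induction_on with
  | _ d ih =>
    intro v hd hv h0 hn
    have h := sweep_all hv
    have hguard : (Nat.beq v 0 || !(Nat.beq (normF v) v)) = false := by
      have e1 : Nat.beq v 0 = false := by
        rw [← Bool.not_eq_true]; exact fun e => h0 (Nat.eq_of_beq_eq_true e)
      rw [e1, normF_eq, hn, Nat.beq_refl]; rfl
    unfold sweepCheck at h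
    rw [hguard] at h
    simp only [forceNat_eq, Bool.and_eq_true, Nat.blt_eq, beq_iff_eq] at h
    obtain ⟨⟨⟨h1, h2⟩, h3⟩, h4⟩ := h
    refine ⟨h1, h2, ?_, ?_⟩
    · show elab3 (entry v) = 3 ↔ _
      rcases Bool.eq_false_or_eq_true (oddWt v) with o | o <;> rw [o] at h3 ⊢
      · simp only [Bool.not_true] at h3
        exact ⟨fun e => absurd h3 (by rw [e]; decide), fun e => by cases e⟩
      · simp only [Bool.not_false] at h3
        exact ⟨fun _ => rfl, fun _ => Nat.eq_of_beq_eq_true h3⟩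
    · by_cases hdist : edist (entry v) = 0
      · rw [hdist] at h4
        have e : v = basePt (lab v) := Nat.eq_of_beq_eq_true h4
        refine ⟨1, one_mem _, 1, one_ne_zero, ?_⟩
        rw [Units.val_one, one_mulVec, one_smul, ← e]
      · have hb : Nat.beq (edist (entry v)) 0 = false := by
          rw [← Bool.not_eq_true]; exact fun e => hdist (Nat.eq_of_beq_eq_true e)
        rw [hb] at h4
        simp only [Bool.and_eq_true, Nat.blt_eq] at h4
        obtain ⟨h5, h6⟩ := h4
        have hj : estep (entry v) < 4 := by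
          show (entry v >>> 4) &&& 3 < 4
          exact lt_of_le_of_lt Nat.and_le_right (by norm_num)
        have hs : stepIdx (estep (entry v)) < 7 := stepIdx_lt ⟨_, hj⟩
        rw [stepApp_eq hj hv, normF_eq] at h5 h6
        obtain ⟨g, hg, eg⟩ := isUnit_hSet hG (g7_mem_hSet hG hs)
        have hlt : app (g7 (stepIdx (estep (entry v)))) v < 2 ^ 18 :=
          app_bound (g7_bound ⟨_, hs⟩) v
        obtain ⟨c, hc, ec⟩ := exists_smul_norm hG (app (g7 (stepIdx (estep (entry v)))) v)
        have hw0 : norm (app (g7 (stepIdx (estep (entry v)))) v) ≠ 0 := by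
          intro e
          rw [e, val_zero] at ec
          have hz := (smul_eq_zero.1 ec.symm).resolve_left hc
          rw [val_app hG, ← eg] at hz
          exact val_ne_zero hG hv h0 ((mulVec_injective_iff_isUnit.2 g.isUnit) (by
            rw [hz, mulVec_zero]))
        obtain ⟨-, -, -, g', hg', c', hc', e'⟩ := ih _ (lt_of_lt_of_le h6 hd) _ le_rfl
          (norm_lt hG hlt) hw0 (norm_idem hG hlt)
        have el : lab (norm (app (g7 (stepIdx (estep (entry v)))) v)) = lab v :=
          Nat.eq_of_beq_eq_true h5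
        rw [el, ec, mulVec_smul, val_app hG, ← eg] at e'
        refine ⟨g' * g, mul_mem hg' hg, c⁻¹ * c', mul_ne_zero (inv_ne_zero hc) hc', ?_⟩
        rw [Units.val_mul, ← mulVec_mulVec, mul_smul, ← e', smul_smul, inv_mul_cancel₀ hc, one_smul]

theorem exists_reduce {v : ℕ} (hv : v < 2 ^ 18) (h0 : v ≠ 0) (hn : norm v = v) :
    ∃ g ∈ threeJ3 F ω, ∃ c : F, c ≠ 0 ∧
      (g : Matrix F9 F9 F) *ᵥ val ω v = c • val ω (basePt (lab v)) :=
  (reduce hG _ v le_rfl hv h0 hn).2.2.2

/-- The orbit of the base line is label one. -/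
theorem lab_eq_one_iff {v : ℕ} (hv : v < 2 ^ 18) (h0 : v ≠ 0) (hn : norm v = v) :
    lab v = 1 ↔ ∃ g ∈ threeJ3 F ω, ∃ c : F, c ≠ 0 ∧
      val ω v = c • ((g : Matrix F9 F9 F) *ᵥ val ω 1) := by
  obtain ⟨g, hg, c, hc, e⟩ := exists_reduce hG hv h0 hn
  constructor
  · intro h1
    rw [h1, show basePt 1 = 1 from rfl] at e
    refine ⟨g⁻¹, inv_mem hg, c, hc, ?_⟩
    rw [← mulVec_smul, ← e, mulVec_mulVec, Units.inv_mul, one_mulVec]
  · rintro ⟨g₀, hg₀, d, hd, e₀⟩
    by_contra hne
    obtain ⟨hpos, hlt, -, -⟩ := reduce hG _ v le_rfl hv h0 hn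
    obtain ⟨k, hk, l, hl, k', hk', ek⟩ :=
      hSet_subset_uSet hG ((mem_threeJ3_iff hG (g * g₀)).1 (mul_mem hg hg₀))
    obtain ⟨b, hb, eb⟩ := kSet_line hG hk'
    rw [e₀, mulVec_smul, mulVec_mulVec, ← Units.val_mul, ek, ← mulVec_mulVec, ← mulVec_mulVec, eb,
      mulVec_smul, mulVec_smul] at e
    obtain ⟨u, hu, eu⟩ := isUnit_hSet hG (kSet_subset hG hk)
    obtain ⟨a, ha, n, hn', ei⟩ := inv_mem_kSet hG (g := u) (by rw [eu]; exact hk)
    have e3 : ((u⁻¹ : GL F9 F) : Matrix F9 F9 F) *ᵥ val ω (basePt (lab v)) =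
        (c⁻¹ * d * b) • (toMat ω (repc l) *ᵥ val ω 1) := by
      have h2 : val ω (basePt (lab v)) = (c⁻¹ * d * b) • (k *ᵥ (toMat ω (repc l) *ᵥ val ω 1)) := by
        rw [mul_smul, mul_smul, e, smul_smul, inv_mul_cancel₀ hc, one_smul]
      rw [h2, mulVec_smul, ← eu, mulVec_mulVec (M := ((u⁻¹ : GL F9 F) : Matrix F9 F9 F)),
        Units.inv_mul, one_mulVec]
    have hi : a * 80 + n < 6480 := by omega
    have ek' : ((u⁻¹ : GL F9 F) : Matrix F9 F9 F) = toMat ω (kCode (a * 80 + n)) := by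
      rw [ei, kCode, show (a * 80 + n) / 80 = a by omega, show (a * 80 + n) % 80 = n by omega,
        toMat_mm hG]
    rw [ek', ← val_app hG, ← val_app hG] at e3
    have hnorm := norm_eq_of_smul hG (app_bound (kCode_bound hi) _)
      (app_bound (repc_bound ⟨l, hl⟩) 1) (mul_ne_zero (mul_ne_zero (inv_ne_zero hc) hd) hb) e3
    have h1 := rep_lab ⟨l, hl⟩
    rw [← hnorm] at h1
    obtain hl2 | hl3 : lab v = 2 ∨ lab v = 3 := by omega
    · rw [hl2, show basePt 2 = 73 from rfl] at h1; exact (other_all hi).1 h1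
    · rw [hl3, show basePt 3 = 72 from rfl] at h1; exact (other_all hi).2 h1

/-- The normal forms of the orbit. -/
def oneSet : Set ℕ := {v | v < 2 ^ 18 ∧ v ≠ 0 ∧ norm v = v ∧ lab v = 1}

end

theorem ncard_oneSet : oneSet.ncard = 23256 := by
  have h := one_count
  rw [oneBlocks_spec, countFrom_spec, Nat.zero_mul, Nat.zero_add] at h
  rw [← h, ← Set.ncard_coe_finset]
  refine congrArg Set.ncard (Set.ext fun v => ?_)
  simp only [oneSet, Finset.coe_filter, Finset.mem_Ico, Set.mem_ofPred_eq, isOne, normF_eq,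
    Bool.and_eq_true, lab]
  constructor
  · rintro ⟨h1, -, h3, h4⟩
    exact ⟨⟨Nat.zero_le _, by omega⟩, by rw [h4]; rfl, by rw [h3]; exact Nat.beq_refl v⟩
  · rintro ⟨⟨-, h1⟩, h4, h3⟩
    refine ⟨by omega, fun e => ?_, Nat.eq_of_beq_eq_true h3, Nat.eq_of_beq_eq_true h4⟩
    subst e
    exact absurd h4 (by decide +kernel)

section

variable {F : Type*} [Field F] [Fintype F] {ω : F} (hG : Good F ω)
include hG

theorem g7_three : toMat ω (g7 3) = ω • (1 : Matrix F9 F9 F) := by
  have hb : ∀ w z : F9, ((g7 3).getD (idx z) 0).testBit (idx w) = false ∧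
      ((g7 3).getD (idx z) 0).testBit (9 + idx w) = decide (w = z) := by decide +kernel
  ext w z
  rw [toMat_apply, val, (hb w z).1, (hb w z).2, Matrix.smul_apply, Matrix.one_apply]
  by_cases e : w = z <;> simp [e, cf]

theorem scalar_mem {c : F} (hc : c ≠ 0) :
    ∃ g ∈ threeJ3 F ω, (g : Matrix F9 F9 F) = c • (1 : Matrix F9 F9 F) := by
  obtain ⟨g, hg, e⟩ := isUnit_hSet hG (g7_mem_hSet hG (show 3 < 7 by norm_num))
  rw [g7_three hG] at e
  obtain ⟨k, hk, ek⟩ := val_surj hG (fun _ => c)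
  have hF : c = 1 ∨ c = ω ∨ c = ω * ω := by
    have := congrFun ek (pt 0)
    simp only [val, cf] at this
    rw [← this] at hc ⊢
    clear this ek
    generalize k.testBit (idx (pt 0)) = a at hc ⊢
    generalize k.testBit (9 + idx (pt 0)) = b at hc ⊢
    cases a <;> cases b <;> simp [w_sq hG, add_comm] at hc ⊢
  rcases hF with rfl | rfl | rfl
  · exact ⟨1, one_mem _, by rw [Units.val_one, one_smul]⟩
  · exact ⟨g, hg, e⟩
  · exact ⟨g * g, mul_mem hg hg, by rw [Units.val_mul, e, smul_mul_assoc, one_mul, smul_smul]⟩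

theorem card_nonzero : {c : F | c ≠ 0}.ncard = 3 := by
  classical
  have h : ({c : F | c ≠ 0} : Set F) = ({0} : Set F)ᶜ := by ext; simp
  rw [h, Set.ncard_compl, Set.ncard_singleton, Nat.card_eq_fintype_card, hG.card]

/-- The order of `3·J₃`. -/
theorem card_threeJ3 : Nat.card ↥(threeJ3 F ω) = 150698880 := by
  classical
  letI : MulAction ↥(threeJ3 F ω) (F9 → F) :=
    { smul := fun g v => (g.1 : Matrix F9 F9 F) *ᵥ v
      one_smul := fun v => one_mulVec v
      mul_smul := fun g h v => (mulVec_mulVec v (g.1 : Matrix F9 F9 F) (h.1 : Matrix F9 F9 F)).symm }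
  have hso : ∀ (g : ↥(threeJ3 F ω)) (v : F9 → F), g • v = (g.1 : Matrix F9 F9 F) *ᵥ v := fun _ _ => rfl
  have h1 : (MulAction.orbit ↥(threeJ3 F ω) (val ω 1)).ncard = 69768 := by
    rw [show 69768 = (oneSet ×ˢ {c : F | c ≠ 0}).ncard by
      rw [Set.ncard_prod, ncard_oneSet, card_nonzero hG]]
    refine (Set.ncard_congr (fun p _ => p.2 • val ω p.1) ?_ ?_ ?_).symm
    · rintro ⟨v, c⟩ ⟨⟨hv, h0, hn, hl⟩, hc : c ≠ 0⟩
      obtain ⟨g, hg, d, hd, e⟩ := (lab_eq_one_iff hG hv h0 hn).1 hl
      obtain ⟨s, hs, es⟩ := scalar_mem hG (mul_ne_zero hc hd)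
      refine ⟨⟨s * g, mul_mem hs hg⟩, ?_⟩
      show ((s * g : GL F9 F) : Matrix F9 F9 F) *ᵥ val ω 1 = c • val ω v
      rw [Units.val_mul, es, smul_mul_assoc, one_mul, smul_mulVec, e, smul_smul]
    · rintro ⟨v, c⟩ ⟨v', c'⟩ ⟨⟨hv, h0, hn, -⟩, hc : c ≠ 0⟩ ⟨⟨hv', -, hn', -⟩, hc' : c' ≠ 0⟩ h
      have h' : val ω v = (c⁻¹ * c') • val ω v' := by
        rw [mul_smul, ← h, smul_smul, inv_mul_cancel₀ hc, one_smul]
      have he := norm_eq_of_smul hG hv hv' (mul_ne_zero (inv_ne_zero hc) hc') h'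
      rw [hn, hn'] at he
      subst he
      have : c = c' := smul_left_injective F (val_ne_zero hG hv h0) h
      subst this
      rfl
    · rintro x ⟨g, rfl⟩
      obtain ⟨v, hv, ev⟩ := val_surj hG (g • val ω 1)
      have hx : g • val ω 1 ≠ 0 := fun h => val_ne_zero hG (by norm_num : 1 < 2 ^ 18) one_ne_zero
        (smul_left_cancel g (by rw [h, hso, mulVec_zero]))
      have hv0 : v ≠ 0 := fun e => hx (by rw [← ev, e, val_zero])
      obtain ⟨c, hc, ec⟩ := exists_smul_norm hG v
      have hn0 : norm v ≠ 0 := fun e => by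
        rw [e, val_zero] at ec
        exact val_ne_zero hG hv hv0 ((smul_eq_zero.1 ec.symm).resolve_left hc)
      refine ⟨(norm v, c⁻¹), ⟨⟨norm_lt hG hv, hn0, norm_idem hG hv, ?_⟩, inv_ne_zero hc⟩, ?_⟩
      · exact (lab_eq_one_iff hG (norm_lt hG hv) hn0 (norm_idem hG hv)).2
          ⟨g.1, g.2, c, hc, by rw [ec, ev, hso]⟩
      · show c⁻¹ • val ω (norm v) = g • val ω 1
        rw [ec, smul_smul, inv_mul_cancel₀ hc, one_smul, ev]
  have h2 : Nat.card (MulAction.stabilizer ↥(threeJ3 F ω) (val ω 1)) = 2160 := by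
    rw [← ncard_vecStab hG, ← Nat.card_coe_set_eq]
    refine Nat.card_congr
      { toFun := fun g => ⟨g.1.1, g.1.2, g.2⟩
        invFun := fun g => ⟨⟨g.1, g.2.1⟩, g.2.2⟩
        left_inv := fun g => rfl
        right_inv := fun g => rfl }
  have h := MulAction.index_stabilizer ↥(threeJ3 F ω) (val ω 1)
  have h3 := (MulAction.stabilizer ↥(threeJ3 F ω) (val ω 1)).card_mul_index
  rw [h, h1, h2] at h3
  omega

end

end Cfsg.Agent.H15.J3
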