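import Cfsg.Agent.H15.J3.Orbit

/-!
The centre of `3·J₃`, and simplicity of `J₃`.
-/

set_option autoImplicit false

namespace Cfsg.Agent.H15.J3

open Cfsg.Spor Matrix Cfsg.Agent.H16

/-- The six generators of the stabiliser and one double coset representative. -/
def gensAt (l : ℕ) : List (List ℕ) := Data.gen7.take 6 ++ [repc l]

theorem maxW_ok : ∀ l : Fin 28, l.1 ≠ 0 → small 7 (Data.maxW.getD l []) = true ∧
    ev (gensAt l) (Data.maxW.getD l []) = g7 6 := by decide +kernel

/-- The conjugates of the element of order three used below. -/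
def conjT : List (List ℕ) :=
  Data.cj.map fun l => mm (mm (repc l) (g7 2)) (Data.repsInv.getD l [])

theorem cj_ok : ∀ i : Fin 6, Data.cj.getD i 0 < 28 ∧
    mm (repc (Data.cj.getD i 0)) (Data.repsInv.getD (Data.cj.getD i 0) []) = idM := by decide +kernel

theorem conjT_length : conjT.length = 6 := by decide +kernel

theorem genL_ok : ∀ j : Fin 7, small 6 (Data.genL.getD j []) = true ∧
    ev conjT (Data.genL.getD j []) = g7 j := by decide +kernel

/-- The nine elements of the group generated by the order three element and the scalars. -/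
def tList : List (List ℕ) :=
  [idM, g7 2, mm (g7 2) (g7 2), g7 3, mm (g7 3) (g7 2), mm (g7 3) (mm (g7 2) (g7 2)),
    mm (g7 3) (g7 3), mm (mm (g7 3) (g7 3)) (g7 2), mm (mm (g7 3) (g7 3)) (mm (g7 2) (g7 2))]

theorem tConj_ok : ∀ s : Fin 6, Data.tConj.getD s 0 < 9 ∧
    mm (mm (g7 s) (g7 2)) (Data.gen7Inv.getD s []) = tList.getD (Data.tConj.getD s 0) [] := by
  decide +kernel

theorem comm_ok : mm (mm (g7 4) (g7 2)) (mm (Data.gen7Inv.getD 4 []) (Data.gen7Inv.getD 2 [])) =
    g7 2 := by decide +kernel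

theorem unit_pts : ∀ z : F9, 2 ^ idx z < 2 ^ 18 ∧ 2 ^ idx z ≠ 0 ∧ norm (2 ^ idx z) = 2 ^ idx z ∧
    lab (2 ^ idx z) = 1 ∧
    ∀ w : F9, (2 ^ idx z).testBit (idx w) = decide (w = z) ∧
      (2 ^ idx z).testBit (9 + idx w) = false := by decide +kernel

theorem full_pt : norm 128359 = 128359 ∧ lab 128359 = 1 ∧
    ∀ w : F9, Nat.testBit 128359 (idx w) = true ∨ Nat.testBit 128359 (9 + idx w) = true := by
  decide +kernel

section

variable {F : Type*} [Field F] [Fintype F] {ω : F} (hG : Good F ω)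
include hG

theorem exists_gen {m : Matrix F9 F9 F} (h : m ∈ j3Gens F ω) :
    ∃ g ∈ threeJ3 F ω, (g : Matrix F9 F9 F) = m := by
  obtain ⟨M, hM, rfl⟩ := exists_mem_of_gens hG h
  obtain ⟨i, hi, rfl⟩ := List.getElem_of_mem hM
  have h := allW_ok ⟨i, allGens_length ▸ hi⟩
  rw [List.getD_eq_getElem allGens [] hi] at h
  rw [← h.2]
  exact isUnit_hSet hG (ev_mem_hSet hG le_rfl h.1)

theorem omegaPow_inj {m n : ZMod 3} (h : omegaPow F ω m = omegaPow F ω n) : m = n := by
  rw [← cf_wBits hG, ← cf_wBits hG] at h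
  obtain ⟨h1, h2⟩ := cf_inj hG h
  have key : ∀ m n : ZMod 3, wBits m = wBits n → m = n := by decide
  exact key m n (Prod.ext h1 h2)

/-- The centre consists of scalars. -/
theorem center_scalar {g : ↥(threeJ3 F ω)} (hg : g ∈ Subgroup.center ↥(threeJ3 F ω)) :
    ∃ c : F, c ≠ 0 ∧ (g.1 : Matrix F9 F9 F) = c • (1 : Matrix F9 F9 F) := by
  have comm : ∀ m ∈ j3Gens F ω, m * (g.1 : Matrix F9 F9 F) = (g.1 : Matrix F9 F9 F) * m := by
    intro m hm
    obtain ⟨x, hx, rfl⟩ := exists_gen hG hm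
    have := congrArg (fun y : ↥(threeJ3 F ω) => (y.1 : Matrix F9 F9 F))
      (Subgroup.mem_center_iff.1 hg ⟨x, hx⟩)
    simpa using this
  have hdiag : ∀ a b : F9, a ≠ b → (g.1 : Matrix F9 F9 F) a b = 0 := by
    intro a b hab
    by_contra hne
    have key : ∀ Z : F9, Z.1 * a.1 + Z.2 * a.2 = Z.1 * b.1 + Z.2 * b.2 := by
      intro Z
      have := congrFun (congrFun (comm _ (Or.inl (Or.inl (Or.inl (Or.inl ⟨Z, rfl⟩))))) a) b
      rw [j3A, Matrix.diagonal_mul, Matrix.mul_diagonal, mul_comm] at this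
      exact omegaPow_inj hG (mul_left_cancel₀ hne this)
    have h1 := key ((1 : ZMod 3), (0 : ZMod 3))
    have h2 := key ((0 : ZMod 3), (1 : ZMod 3))
    exact hab (Prod.ext (by simpa using h1) (by simpa using h2))
  have hmat : (g.1 : Matrix F9 F9 F) = Matrix.diagonal fun z => (g.1 : Matrix F9 F9 F) z z := by
    ext a b
    by_cases h : a = b
    · subst h; rw [Matrix.diagonal_apply_eq]
    · rw [Matrix.diagonal_apply_ne _ h, hdiag a b h]
  have heq : ∀ Z : F9, (g.1 : Matrix F9 F9 F) Z Z = (g.1 : Matrix F9 F9 F) 0 0 := by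
    intro Z
    have h := congrFun (congrFun (comm _ (Or.inl (Or.inl (Or.inr ⟨Z, rfl⟩)))) Z) 0
    rw [hmat, Matrix.mul_diagonal, Matrix.diagonal_mul] at h
    simpa [j3D, j3Lam] using h.symm
  refine ⟨(g.1 : Matrix F9 F9 F) 0 0, fun h0 => ?_, ?_⟩
  · have hz : (g.1 : Matrix F9 F9 F) = 0 := by
      rw [hmat]
      ext a b
      by_cases h : a = b
      · subst h; rw [Matrix.diagonal_apply_eq, heq, h0]; rfl
      · rw [Matrix.diagonal_apply_ne _ h]; rfl
    exact g.1.ne_zero hz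
  · conv_lhs => rw [hmat]
    rw [Matrix.smul_one_eq_diagonal]
    exact congrArg Matrix.diagonal (funext heq)

theorem mem_center_of_scalar {g : ↥(threeJ3 F ω)} {c : F}
    (h : (g.1 : Matrix F9 F9 F) = c • (1 : Matrix F9 F9 F)) :
    g ∈ Subgroup.center ↥(threeJ3 F ω) := by
  refine Subgroup.mem_center_iff.2 fun x => Subtype.ext (Units.ext ?_)
  show (x.1 : Matrix F9 F9 F) * (g.1 : Matrix F9 F9 F) = (g.1 : Matrix F9 F9 F) * (x.1 : Matrix F9 F9 F)
  rw [h, mul_smul_comm, smul_mul_assoc, mul_one, one_mul]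

/-- The centre has order three. -/
theorem card_center : Nat.card ↥(Subgroup.center ↥(threeJ3 F ω)) = 3 := by
  refine Eq.trans ?_ (card_nonzero hG)
  rw [← Nat.card_coe_set_eq]
  refine (Nat.card_eq_of_bijective (fun c : {c : F | c ≠ 0} =>
    (⟨⟨(scalar_mem hG c.2).choose, (scalar_mem hG c.2).choose_spec.1⟩,
      mem_center_of_scalar hG (scalar_mem hG c.2).choose_spec.2⟩ :
        ↥(Subgroup.center ↥(threeJ3 F ω)))) ⟨?_, ?_⟩).symm
  · intro c d h
    have h' := congrArg (fun y : ↥(Subgroup.center ↥(threeJ3 F ω)) => (y.1.1 : Matrix F9 F9 F)) h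
    simp only at h'
    rw [(scalar_mem hG c.2).choose_spec.2, (scalar_mem hG d.2).choose_spec.2] at h'
    have := congrFun (congrFun h' 0) 0
    simp at this
    exact Subtype.ext this
  · rintro ⟨g, hg⟩
    obtain ⟨c, hc, e⟩ := center_scalar hG hg
    refine ⟨⟨c, hc⟩, Subtype.ext (Subtype.ext (Units.ext ?_))⟩
    exact (scalar_mem hG hc).choose_spec.2.trans e.symm

/-- The order of `J₃`. -/
theorem card_J3 : Nat.card (J3 F ω) = 50232960 := by
  have h := Subgroup.card_eq_card_quotient_mul_card_subgroup (Subgroup.center ↥(threeJ3 F ω))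
  rw [card_threeJ3 hG, card_center hG] at h
  show Nat.card (↥(threeJ3 F ω) ⧸ Subgroup.center ↥(threeJ3 F ω)) = _
  omega

/-- An element of the group with a given packed generator as matrix. -/
theorem exists_el {m : Matrix F9 F9 F} (h : m ∈ hSet F ω) :
    ∃ g : ↥(threeJ3 F ω), (g.1 : Matrix F9 F9 F) = m := by
  obtain ⟨g, hg, e⟩ := isUnit_hSet hG h
  exact ⟨⟨g, hg⟩, e⟩

theorem ext_mat {x y : ↥(threeJ3 F ω)} (h : (x.1 : Matrix F9 F9 F) = (y.1 : Matrix F9 F9 F)) :
    x = y := Subtype.ext (Units.ext h)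

theorem mat_mul (x y : ↥(threeJ3 F ω)) :
    ((x * y).1 : Matrix F9 F9 F) = (x.1 : Matrix F9 F9 F) * (y.1 : Matrix F9 F9 F) := rfl

theorem ev_mem_subgroup (P : Subgroup ↥(threeJ3 F ω)) (gs : List (List ℕ)) (n : ℕ)
    (h : ∀ j < n, ∃ g ∈ P, (g.1 : Matrix F9 F9 F) = toMat ω (gs.getD j [])) :
    ∀ w, small n w = true → ∃ g ∈ P, (g.1 : Matrix F9 F9 F) = toMat ω (ev gs w) := by
  intro w
  induction w with
  | nil => exact fun _ => ⟨1, one_mem P, (toMat_ev_nil hG gs).symm⟩
  | cons j w ih =>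
    intro hw
    simp only [small, List.all_cons, Bool.and_eq_true, decide_eq_true_eq] at hw
    obtain ⟨x, hx, ex⟩ := h j hw.1
    obtain ⟨y, hy, ey⟩ := ih (by simp only [small]; exact hw.2)
    exact ⟨x * y, mul_mem hx hy, by rw [mat_mul hG, ex, ey, toMat_ev_cons hG]⟩

theorem subgroup_eq_top (P : Subgroup ↥(threeJ3 F ω))
    (h : ∀ j < 7, ∃ g ∈ P, (g.1 : Matrix F9 F9 F) = toMat ω (g7 j)) : P = ⊤ := by
  refine eq_top_iff.2 fun x _ => ?_
  obtain ⟨w, hw, e⟩ := (mem_threeJ3_iff hG x.1).1 x.2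
  obtain ⟨y, hy, ey⟩ := ev_mem_subgroup hG P Data.gen7 7 h w hw
  rwa [ext_mat hG (e.trans ey.symm)]

variable (F ω) in
omit hG in
/-- The stabiliser of the base line, as a subgroup. -/
def kGroup (hG : Good F ω) : Subgroup ↥(threeJ3 F ω) where
  carrier := {g | (g.1 : Matrix F9 F9 F) ∈ kSet F ω}
  one_mem' := kSet_one hG
  mul_mem' := fun hx hy => kSet_mul hG hx hy
  inv_mem' := fun hx => inv_mem_kSet hG hx

theorem normal_le_kGroup {M : Subgroup ↥(threeJ3 F ω)} [M.Normal] (hM : M ≤ kGroup F ω hG) :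
    M ≤ Subgroup.center ↥(threeJ3 F ω) := by
  intro g hg
  have fix : ∀ v, v < 2 ^ 18 → v ≠ 0 → norm v = v → lab v = 1 →
      ∃ c : F, (g.1 : Matrix F9 F9 F) *ᵥ val ω v = c • val ω v := by
    intro v hv h0 hn hl
    obtain ⟨h, hh, d, -, e⟩ := (lab_eq_one_iff hG hv h0 hn).1 hl
    have hconj := hM (‹M.Normal›.conj_mem g hg (⟨h, hh⟩⁻¹))
    obtain ⟨c, -, ec⟩ := kSet_line hG hconj
    refine ⟨c, ?_⟩
    have e2 : (g.1 : Matrix F9 F9 F) * (h : Matrix F9 F9 F) = (h : Matrix F9 F9 F) *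
        (((⟨h, hh⟩ : ↥(threeJ3 F ω))⁻¹ * g * ((⟨h, hh⟩ : ↥(threeJ3 F ω))⁻¹)⁻¹).1 : Matrix F9 F9 F) := by
      have := congrArg (fun y : ↥(threeJ3 F ω) => (y.1 : Matrix F9 F9 F))
        (show g * ⟨h, hh⟩ = ⟨h, hh⟩ * ((⟨h, hh⟩ : ↥(threeJ3 F ω))⁻¹ * g * ((⟨h, hh⟩ : ↥(threeJ3 F ω))⁻¹)⁻¹) by
          group)
      simpa [mat_mul hG] using this
    rw [e, mulVec_smul, mulVec_mulVec, e2, ← mulVec_mulVec, ec, mulVec_smul, smul_comm]
  obtain ⟨c, hc⟩ := fix 128359 (by norm_num) (by norm_num) full_pt.1 full_pt.2.1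
  have hdiag : ∀ z w : F9, (g.1 : Matrix F9 F9 F) w z = if w = z then c else 0 := by
    intro z w
    obtain ⟨h1, h2, h3, h4, h5⟩ := unit_pts z
    have hz : val ω (2 ^ idx z) = Pi.single z (1 : F) := by
      funext y
      rw [val, (h5 y).1, (h5 y).2]
      by_cases e : y = z <;> simp [cf, e]
    have col : ∀ z : F9, ∃ d : F, ∀ w, (g.1 : Matrix F9 F9 F) w z = if w = z then d else 0 := by
      intro z
      obtain ⟨h1, h2, h3, h4, h5⟩ := unit_pts z
      obtain ⟨d, hd⟩ := fix _ h1 h2 h3 h4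
      refine ⟨d, fun w => ?_⟩
      have hz : val ω (2 ^ idx z) = Pi.single z (1 : F) := by
        funext y
        rw [val, (h5 y).1, (h5 y).2]
        by_cases e : y = z <;> simp [cf, e]
      have := congrFun hd w
      rw [hz, Matrix.mulVec_single_one] at this
      simpa [Pi.single_apply] using this
    choose d hd using col
    have hdc : d z = c := by
      have := congrFun hc z
      rw [mulVec, dotProduct, Finset.sum_eq_single z (fun b _ hb => by rw [hd b z, if_neg (Ne.symm hb), zero_mul])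
        (fun h => absurd (Finset.mem_univ z) h), hd z z, if_pos rfl, Pi.smul_apply, smul_eq_mul] at this
      refine mul_right_cancel₀ ?_ this
      intro h0
      have hb := cf_inj hG (h0.trans (show (0 : F) = cf ω false false by simp [cf]))
      rcases full_pt.2.2 z with h | h
      · rw [h] at hb; exact absurd hb.1 (by decide)
      · rw [h] at hb; exact absurd hb.2 (by decide)
    rw [hd z w, hdc]
  refine mem_center_of_scalar hG (c := c) ?_
  ext w z
  rw [hdiag z w, Matrix.smul_apply, Matrix.one_apply]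
  split_ifs <;> simp

theorem normal_eq_top {M : Subgroup ↥(threeJ3 F ω)} [M.Normal]
    (hZ : Subgroup.center ↥(threeJ3 F ω) ≤ M) (hM : ¬ M ≤ kGroup F ω hG) : M = ⊤ := by
  obtain ⟨g, hgM, hgK⟩ := Set.not_subset.1 hM
  -- the normal subgroup with the stabiliser is everything
  have hsup : M ⊔ kGroup F ω hG = ⊤ := by
    obtain ⟨k, hk, l, hl, k', hk', e⟩ := hSet_subset_uSet hG ((mem_threeJ3_iff hG g.1).1 g.2)
    obtain ⟨a, ha⟩ := exists_el hG (kSet_subset hG hk)
    obtain ⟨b, hb⟩ := exists_el hG (kSet_subset hG hk')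
    obtain ⟨r, hr⟩ := exists_el hG (rep_mem_hSet hG hl)
    have hl0 : l ≠ 0 := by
      rintro rfl
      refine hgK (show (g.1 : Matrix F9 F9 F) ∈ kSet F ω from ?_)
      rw [e, first_ok.2.2, toMat_idM hG, mul_one]
      exact kSet_mul hG hk hk'
    have haK : a ∈ kGroup F ω hG := show (a.1 : Matrix F9 F9 F) ∈ kSet F ω by rw [ha]; exact hk
    have hbK : b ∈ kGroup F ω hG := show (b.1 : Matrix F9 F9 F) ∈ kSet F ω by rw [hb]; exact hk'
    have hg : g = a * r * b := ext_mat hG (by rw [e, mat_mul hG, mat_mul hG, ha, hb, hr])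
    have hrS : r ∈ M ⊔ kGroup F ω hG := by
      rw [show r = a⁻¹ * g * b⁻¹ by rw [hg]; group]
      exact mul_mem (mul_mem (Subgroup.mem_sup_right (inv_mem haK)) (Subgroup.mem_sup_left hgM))
        (Subgroup.mem_sup_right (inv_mem hbK))
    have small6 : ∀ j < 6, ∃ x ∈ M ⊔ kGroup F ω hG, (x.1 : Matrix F9 F9 F) = toMat ω (g7 j) := by
      intro j hj
      obtain ⟨x, hx⟩ := exists_el hG (g7_mem_hSet hG (show j < 7 by omega))
      exact ⟨x, Subgroup.mem_sup_right (show (x.1 : Matrix F9 F9 F) ∈ kSet F ω by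
        rw [hx]; exact g7_mem_kSet hG hj), hx⟩
    refine subgroup_eq_top hG _ fun j hj => ?_
    by_cases hj6 : j < 6
    · exact small6 j hj6
    · obtain rfl : j = 6 := by omega
      obtain ⟨hw, he⟩ := maxW_ok ⟨l, hl⟩ hl0
      rw [← he]
      refine ev_mem_subgroup hG _ (gensAt l) 7 (fun i hi => ?_) _ hw
      by_cases hi6 : i < 6
      · have : (gensAt l).getD i [] = g7 i := by
          interval_cases i <;> rfl
        rw [this]; exact small6 i hi6
      · obtain rfl : i = 6 := by omega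
        exact ⟨r, hrS, hr⟩
  -- the element of order three and the scalars
  obtain ⟨t, ht⟩ := exists_el hG (g7_mem_hSet hG (show 2 < 7 by norm_num))
  obtain ⟨w, hw⟩ := exists_el hG (g7_mem_hSet hG (show 3 < 7 by norm_num))
  have hwZ : w ∈ Subgroup.center ↥(threeJ3 F ω) :=
    mem_center_of_scalar hG (hw.trans (g7_three hG))
  let T : Subgroup ↥(threeJ3 F ω) := Subgroup.closure {t, w}
  have htT : t ∈ T := Subgroup.subset_closure (Set.mem_insert _ _)
  have hwT : w ∈ T := Subgroup.subset_closure (Set.mem_insert_of_mem _ rfl)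
  have hlist : ∀ i < 9, ∃ x ∈ T, (x.1 : Matrix F9 F9 F) = toMat ω (tList.getD i []) := by
    intro i hi
    interval_cases i
    · exact ⟨1, one_mem _, (toMat_idM hG).symm⟩
    · exact ⟨t, htT, ht⟩
    · exact ⟨t * t, mul_mem htT htT, by rw [mat_mul hG, ht, ← toMat_mm hG]; rfl⟩
    · exact ⟨w, hwT, hw⟩
    · exact ⟨w * t, mul_mem hwT htT, by rw [mat_mul hG, ht, hw, ← toMat_mm hG]; rfl⟩
    · exact ⟨w * (t * t), mul_mem hwT (mul_mem htT htT), by
        rw [mat_mul hG, mat_mul hG, ht, hw, ← toMat_mm hG, ← toMat_mm hG]; rfl⟩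
    · exact ⟨w * w, mul_mem hwT hwT, by rw [mat_mul hG, hw, ← toMat_mm hG]; rfl⟩
    · exact ⟨w * w * t, mul_mem (mul_mem hwT hwT) htT, by
        rw [mat_mul hG, mat_mul hG, ht, hw, ← toMat_mm hG, ← toMat_mm hG]; rfl⟩
    · exact ⟨w * w * (t * t), mul_mem (mul_mem hwT hwT) (mul_mem htT htT), by
        rw [mat_mul hG, mat_mul hG, mat_mul hG, ht, hw, ← toMat_mm hG, ← toMat_mm hG, ← toMat_mm hG]
        rfl⟩
  have hTK : ∀ s < 6, ∀ x : ↥(threeJ3 F ω), (x.1 : Matrix F9 F9 F) = toMat ω (g7 s) →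
      ∀ y ∈ T, x * y * x⁻¹ ∈ T := by
    intro s hs x hx y hy
    induction hy using Subgroup.closure_induction with
    | mem z hz =>
      rcases hz with rfl | rfl
      · obtain ⟨hi, heq⟩ := tConj_ok ⟨s, hs⟩
        obtain ⟨u, hu, eu⟩ := hlist _ hi
        have hinv : (x⁻¹.1 : Matrix F9 F9 F) = toMat ω (Data.gen7Inv.getD s []) := by
          refine Units.inv_eq_of_mul_eq_one_right ?_
          rw [hx, ← toMat_mm hG, (inv_ok ⟨s, by omega⟩).1, toMat_idM hG]
        have : x * z * x⁻¹ = u := ext_mat hG (by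
          rw [eu, mat_mul hG, mat_mul hG, hinv, hx, ht, ← heq, toMat_mm hG, toMat_mm hG])
        rwa [this]
      · rw [Subgroup.mem_center_iff.1 hwZ x, mul_inv_cancel_right]; exact hwT
    | one => simp
    | mul z z' _ _ h1 h2 =>
      rw [show x * (z * z') * x⁻¹ = (x * z * x⁻¹) * (x * z' * x⁻¹) by group]; exact mul_mem h1 h2
    | inv z _ h1 =>
      rw [show x * z⁻¹ * x⁻¹ = (x * z * x⁻¹)⁻¹ by group]; exact inv_mem h1
  have hKT : ∀ k ∈ kGroup F ω hG, k * t * k⁻¹ ∈ T := by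
    intro k hk
    obtain ⟨a, ha, n, hn, e⟩ := hk
    have key : ∀ v, small 6 v = true → ∀ x : ↥(threeJ3 F ω),
        (x.1 : Matrix F9 F9 F) = toMat ω (ev Data.gen7 v) → ∀ y ∈ T, x * y * x⁻¹ ∈ T := by
      intro v
      induction v with
      | nil =>
        intro _ x ex y hy
        rw [ext_mat hG (show (x.1 : Matrix F9 F9 F) = ((1 : ↥(threeJ3 F ω)).1 : Matrix F9 F9 F) from
          ex.trans (toMat_ev_nil hG _))]
        simpa using hy
      | cons j v iv =>
        intro hv x ex y hy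
        simp only [small, List.all_cons, Bool.and_eq_true, decide_eq_true_eq] at hv
        obtain ⟨p, hp⟩ := exists_el hG (g7_mem_hSet hG (show j < 7 by omega))
        obtain ⟨q, hq⟩ := exists_el hG (ev_mem_hSet hG (show 6 ≤ 7 by norm_num)
          (w := v) (by simp only [small]; exact hv.2))
        have : x = p * q := ext_mat hG (by rw [ex, mat_mul hG, hp, hq, toMat_ev_cons hG]; rfl)
        rw [this, show p * q * y * (p * q)⁻¹ = p * (q * y * q⁻¹) * p⁻¹ by group]
        exact hTK j hv.1 p hp _ (iv (by simp only [small]; exact hv.2) q hq y hy)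
    refine key (Data.dgW.getD a [] ++ Data.rrW.getD n []) ?_ k ?_ t htT
    · have h1 := (dgW_ok ⟨a, ha⟩).1
      have h2 := (rrW_ok ⟨n, hn⟩).1
      simp only [small, List.all_append, Bool.and_eq_true, List.all_eq_true, decide_eq_true_eq] at h1 h2 ⊢
      exact ⟨fun j hj => by have := h1 j hj; omega, h2⟩
    · rw [toMat_ev_append hG, (dgW_ok ⟨a, ha⟩).2, (rrW_ok ⟨n, hn⟩).2]; exact e
  -- every conjugate lies in the product with this group
  have hMT : M ⊔ T = ⊤ := by
    refine subgroup_eq_top hG _ fun j hj => ?_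
    obtain ⟨hw', he⟩ := genL_ok ⟨j, hj⟩
    rw [← he]
    refine ev_mem_subgroup hG _ conjT 6 (fun i hi => ?_) _ hw'
    obtain ⟨hc, hci⟩ := cj_ok ⟨i, hi⟩
    obtain ⟨r, hr⟩ := exists_el hG (rep_mem_hSet hG hc)
    have hrinv : (r⁻¹.1 : Matrix F9 F9 F) = toMat ω (Data.repsInv.getD (Data.cj.getD i 0) []) := by
      refine Units.inv_eq_of_mul_eq_one_right ?_
      rw [hr, ← toMat_mm hG, hci, toMat_idM hG]
    refine ⟨r * t * r⁻¹, ?_, ?_⟩
    · have hr' : r ∈ M ⊔ kGroup F ω hG := hsup ▸ Subgroup.mem_top r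
      obtain ⟨m, hm, k, hk, rfl⟩ := Subgroup.mem_sup_of_normal_left.1 hr'
      rw [show m * k * t * (m * k)⁻¹ = m * ((k * t * k⁻¹) * m⁻¹ * (k * t * k⁻¹)⁻¹) * (k * t * k⁻¹) by group]
      exact mul_mem (Subgroup.mem_sup_left (mul_mem hm (‹M.Normal›.conj_mem _ (inv_mem hm) _)))
        (Subgroup.mem_sup_right (hKT k hk))
    · have hl : i < Data.cj.length := by
        have := conjT_length
        simp only [conjT, List.length_map] at this
        omega
      rw [conjT, List.getD_eq_getElem _ _ (by rw [List.length_map]; exact hl), List.getElem_map,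
        ← List.getD_eq_getElem Data.cj 0 hl, mat_mul hG, mat_mul hG, hr, ht, hrinv, toMat_mm hG,
        toMat_mm hG]
  -- so the element of order three, a commutator, lies in the normal subgroup
  have htM : t ∈ M := by
    obtain ⟨b, hb⟩ := exists_el hG (g7_mem_hSet hG (show 4 < 7 by norm_num))
    have hbi : (b⁻¹.1 : Matrix F9 F9 F) = toMat ω (Data.gen7Inv.getD 4 []) := by
      refine Units.inv_eq_of_mul_eq_one_right ?_
      rw [hb, ← toMat_mm hG, (inv_ok ⟨4, by norm_num⟩).1, toMat_idM hG]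
    have hti : (t⁻¹.1 : Matrix F9 F9 F) = toMat ω (Data.gen7Inv.getD 2 []) := by
      refine Units.inv_eq_of_mul_eq_one_right ?_
      rw [ht, ← toMat_mm hG, (inv_ok ⟨2, by norm_num⟩).1, toMat_idM hG]
    have hc : b * t * (b⁻¹ * t⁻¹) = t := ext_mat hG (by
      rw [mat_mul hG, mat_mul hG, mat_mul hG, hb, ht, hbi, hti, ← toMat_mm hG, ← toMat_mm hG,
        ← toMat_mm hG, comm_ok])
    obtain ⟨m, hm, τ, hτ, rfl⟩ := Subgroup.mem_sup_of_normal_left.1 (hMT ▸ Subgroup.mem_top b)
    have hcomm : τ * t = t * τ := by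
      have hle : T ≤ Subgroup.centralizer {t} := (Subgroup.closure_le _).2 fun z hz =>
        Subgroup.mem_centralizer_iff.2 fun y hy => by
          rcases hy with rfl
          rcases hz with rfl | rfl
          · rfl
          · exact Subgroup.mem_center_iff.1 hwZ _
      exact (Subgroup.mem_centralizer_iff.1 (hle hτ) t rfl).symm
    rw [← hc, show m * τ * t * ((m * τ)⁻¹ * t⁻¹) = m * (τ * t * τ⁻¹) * m⁻¹ * t⁻¹ by group, hcomm,
      mul_inv_cancel_right, show m * t * m⁻¹ * t⁻¹ = m * (t * m⁻¹ * t⁻¹) by group]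
    exact mul_mem hm (‹M.Normal›.conj_mem _ (inv_mem hm) _)
  have hTM : T ≤ M := (Subgroup.closure_le _).2 fun z hz => by
    rcases hz with rfl | rfl
    · exact htM
    · exact hZ hwZ
  rw [← hMT]
  exact le_antisymm le_sup_left (sup_le le_rfl hTM)

/-- `J₃` is simple. -/
theorem isSimple_J3 : IsSimpleGroup (J3 F ω) := by
  haveI : Nontrivial (J3 F ω) := by
    have h := card_J3 hG
    haveI : Finite (J3 F ω) := Nat.finite_of_card_ne_zero (by rw [h]; norm_num)
    exact (Finite.one_lt_card_iff_nontrivial).1 (by rw [h]; norm_num)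
  refine ⟨fun N hN => ?_⟩
  let π := QuotientGroup.mk' (Subgroup.center ↥(threeJ3 F ω))
  haveI : (N.comap π).Normal := hN.comap π
  have hZ : Subgroup.center ↥(threeJ3 F ω) ≤ N.comap π := fun z hz => by
    show π z ∈ N
    rw [QuotientGroup.mk'_apply, (QuotientGroup.eq_one_iff z).2 hz]; exact one_mem N
  by_cases hM : N.comap π ≤ kGroup F ω hG
  · left
    refine eq_bot_iff.2 fun x hx => ?_
    obtain ⟨g, rfl⟩ := QuotientGroup.mk'_surjective (Subgroup.center ↥(threeJ3 F ω)) x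
    rw [Subgroup.mem_bot, QuotientGroup.mk'_apply, QuotientGroup.eq_one_iff]
    exact normal_le_kGroup hG hM hx
  · right
    refine Subgroup.comap_injective (QuotientGroup.mk'_surjective _) ?_
    rw [Subgroup.comap_top]
    exact normal_eq_top hG hZ hM

end

end Cfsg.Agent.H15.J3
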