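import Cfsg.Agent.H15.J3.StabCheck

/-!
The stabiliser of the base line in `3·J₃`.
-/

set_option autoImplicit false

namespace Cfsg.Agent.H15.J3

open Cfsg.Spor Matrix Cfsg.Agent.H16

theorem srt_spec {i : ℕ} (hi : i < 6480) : srtAt i < 6480 ∧
    (∀ c ∈ kCode (srtAt i), c < 262144) ∧
    (i ≠ 0 → key (kCode (srtAt (i - 1))) < key (kCode (srtAt i))) := by
  have all := allFrom_extend (allFrom_extend (allFrom_extend allFrom_nil srt_a) srt_b) srt_c
  have h := all i hi
  rw [srtCheck, forceNat_eq, Bool.and_eq_true, Bool.and_eq_true, Nat.blt_eq, Bool.or_eq_true,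
    List.all_eq_true] at h
  obtain ⟨⟨h1, h2⟩, h3⟩ := h
  rw [kCodeF_eq h1] at h2 h3
  refine ⟨h1, fun c hc => by simpa [Nat.blt_eq] using h2 c hc, fun h0 => ?_⟩
  rcases h3 with h3 | h3
  · exact absurd (Nat.eq_of_beq_eq_true h3) h0
  · have hp := all (i - 1) (by omega)
    rw [srtCheck, forceNat_eq, Bool.and_eq_true, Bool.and_eq_true, Nat.blt_eq] at hp
    rw [show Nat.pred i = i - 1 from rfl, kCodeF_eq hp.1.1, Nat.blt_eq] at h3
    exact h3

theorem srt_key_lt {i j : ℕ} (hij : i < j) (hj : j < 6480) :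
    key (kCode (srtAt i)) < key (kCode (srtAt j)) := by
  induction j with
  | zero => omega
  | succ j ih =>
    have h := (srt_spec hj).2.2 (by omega)
    simp only [Nat.add_sub_cancel] at h
    rcases Nat.lt_or_ge i j with h' | h'
    · exact lt_trans (ih h' (by omega)) h
    · obtain rfl : i = j := by omega
      exact h

theorem exists_srt {x : ℕ} (hx : x < 6480) : ∃ i < 6480, srtAt i = x := by
  have hinj : Function.Injective fun i : Fin 6480 => (⟨srtAt i, (srt_spec i.2).1⟩ : Fin 6480) := by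
    intro i j h
    have h' : srtAt i = srtAt j := congrArg Fin.val h
    rcases lt_trichotomy i.1 j.1 with c | c | c
    · have := srt_key_lt c j.2; rw [h'] at this; omega
    · exact Fin.ext c
    · have := srt_key_lt c i.2; rw [h'] at this; omega
  obtain ⟨i, hi⟩ := (Finite.injective_iff_surjective.1 hinj) ⟨x, hx⟩
  exact ⟨i.1, i.2, congrArg Fin.val hi⟩

theorem kCode_bound {x : ℕ} (hx : x < 6480) : ∀ c ∈ kCode x, c < 2 ^ 18 := by
  obtain ⟨i, hi, rfl⟩ := exists_srt hx
  exact (srt_spec hi).2.1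

section

variable {F : Type*} [Field F] [Fintype F] {ω : F} (hG : Good F ω)
include hG

theorem val_one : val ω 1 = Pi.single (0 : F9) (1 : F) := by
  funext z
  have h : ∀ z : F9, Nat.testBit 1 (idx z) = decide (z = 0) ∧ Nat.testBit 1 (9 + idx z) = false := by
    decide +kernel
  rw [val, (h z).1, (h z).2]
  by_cases e : z = 0
  · subst e; simp [cf]
  · simp [cf, e]

theorem kCode_inj {x y : ℕ} (hx : x < 6480) (hy : y < 6480)
    (h : toMat ω (kCode x) = toMat ω (kCode y)) : x = y := by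
  have e : kCode x = kCode y := by
    have lenx : (kCode x).length = 9 := mm_length _ _
    have leny : (kCode y).length = 9 := mm_length _ _
    refine List.ext_getElem (by rw [lenx, leny]) fun i h1 h2 => ?_
    refine val_inj hG (kCode_bound hx _ (List.getElem_mem h1)) (kCode_bound hy _ (List.getElem_mem h2))
      (funext fun w => ?_)
    have := congrFun (congrFun h w) (pt i)
    rwa [toMat_apply, toMat_apply, idx_pt (by omega), List.getD_eq_getElem _ _ h1,
      List.getD_eq_getElem _ _ h2] at this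
  obtain ⟨i, hi, rfl⟩ := exists_srt hx
  obtain ⟨j, hj, rfl⟩ := exists_srt hy
  rcases lt_trichotomy i j with c | c | c
  · have := srt_key_lt c hj; rw [e] at this; omega
  · rw [c]
  · have := srt_key_lt c hi; rw [e] at this; omega

theorem kSet_line {k : Matrix F9 F9 F} (hk : k ∈ kSet F ω) :
    ∃ c : F, c ≠ 0 ∧ k *ᵥ val ω 1 = c • val ω 1 := by
  obtain ⟨a, ha, n, hn, rfl⟩ := hk
  have key : ∀ M : List ℕ, norm (app M 1) = 1 → ∃ c : F, c ≠ 0 ∧ toMat ω M *ᵥ val ω 1 = c • val ω 1 := by
    intro M hM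
    obtain ⟨c, hc, e⟩ := exists_smul_norm hG (app M 1)
    refine ⟨c⁻¹, inv_ne_zero hc, ?_⟩
    rw [hM, val_app hG] at e
    have e' := congrArg (fun x => c⁻¹ • x) e
    simp only [smul_smul, inv_mul_cancel₀ hc, one_smul] at e'
    exact e'.symm
  obtain ⟨c, hc, ec⟩ := key _ (dg_line ⟨a, ha⟩)
  obtain ⟨d, hd, ed⟩ := key _ (rr_line ⟨n, hn⟩)
  exact ⟨d * c, mul_ne_zero hd hc, by rw [← mulVec_mulVec, ed, mulVec_smul, ec, smul_smul]⟩

/-- An element fixing the base line is in the stabiliser. -/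
theorem mem_kSet_of_fix {g : GL F9 F} (hg : g ∈ threeJ3 F ω) {c : F} (hc : c ≠ 0)
    (h : (g : Matrix F9 F9 F) *ᵥ val ω 1 = c • val ω 1) : (g : Matrix F9 F9 F) ∈ kSet F ω := by
  obtain ⟨k, hk, l, hl, k', hk', e⟩ := hSet_subset_uSet hG ((mem_threeJ3_iff hG g).1 hg)
  obtain ⟨b, hb, eb⟩ := kSet_line hG hk
  obtain ⟨d, hd, ed⟩ := kSet_line hG hk'
  have hku : IsUnit k := by
    rw [Matrix.isUnit_iff_isUnit_det]
    have := (Matrix.isUnit_iff_isUnit_det _).1 g.isUnit
    rw [e, det_mul, det_mul] at this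
    exact isUnit_of_mul_isUnit_left (isUnit_of_mul_isUnit_left this)
  rw [e, ← mulVec_mulVec, ← mulVec_mulVec, ed, mulVec_smul, mulVec_smul] at h
  have h2 : k *ᵥ (toMat ω (repc l) *ᵥ val ω 1) = k *ᵥ ((d⁻¹ * c * b⁻¹) • val ω 1) := by
    rw [mulVec_smul, eb, smul_smul, mul_assoc _ b⁻¹ b, inv_mul_cancel₀ hb, mul_one, mul_smul, ← h,
      smul_smul, inv_mul_cancel₀ hd, one_smul]
  have h3 := (mulVec_injective_iff_isUnit.2 hku) h2
  rw [← val_app hG] at h3
  have hlt : app (repc l) 1 < 2 ^ 18 := by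
    have hb : ∀ l : Fin 28, app (repc l) 1 < 2 ^ 18 := by decide +kernel
    exact hb ⟨l, hl⟩
  have hn := norm_eq_of_smul hG hlt (by norm_num : 1 < 2 ^ 18)
    (mul_ne_zero (mul_ne_zero (inv_ne_zero hd) hc) (inv_ne_zero hb)) h3
  rw [show norm 1 = 1 by decide +kernel] at hn
  obtain rfl : l = 0 := rep_line ⟨l, hl⟩ hn
  rw [e, first_ok.2.2, toMat_idM hG, mul_one]
  exact kSet_mul hG hk hk'

/-- The stabiliser of the base vector has 2160 elements. -/
theorem ncard_vecStab :
    {g : GL F9 F | g ∈ threeJ3 F ω ∧ (g : Matrix F9 F9 F) *ᵥ val ω 1 = val ω 1}.ncard = 2160 := by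
  classical
  rw [← fixTest_count, countFrom_spec, Nat.zero_add, ← Set.ncard_coe_finset]
  refine (Set.ncard_congr (fun i _ => ?_) ?_ ?_ ?_).symm
  · exact if h : IsUnit (toMat ω (kCode i)) then h.unit else 1
  all_goals simp only [Finset.coe_filter, Finset.mem_Ico, Set.mem_ofPred_eq, Nat.zero_le, true_and]
  · rintro i ⟨hi, hf⟩
    have hmem := kSet_subset hG (kCode_mem hG hi)
    have hu : IsUnit (toMat ω (kCode i)) := by
      obtain ⟨w, hw, e⟩ := hmem
      rw [e]
      clear e hf
      induction w with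
      | nil => rw [toMat_ev_nil hG]; exact isUnit_one
      | cons j w ih =>
        simp only [small, List.all_cons, Bool.and_eq_true, decide_eq_true_eq] at hw
        rw [toMat_ev_cons hG]
        exact IsUnit.mul ⟨⟨toMat ω (g7 j), toMat ω (Data.gen7Inv.getD j []),
          by rw [← toMat_mm hG, (inv_ok ⟨j, hw.1⟩).1, toMat_idM hG],
          by rw [← toMat_mm hG, (inv_ok ⟨j, hw.1⟩).2, toMat_idM hG]⟩, rfl⟩
          (ih (by simp only [small]; exact hw.2))
    rw [dif_pos hu]
    refine ⟨(mem_threeJ3_iff hG _).2 (by rw [IsUnit.unit_spec]; exact hmem), ?_⟩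
    rw [IsUnit.unit_spec]
    rw [fixTest, kCodeF_eq hi, appF_eq (M := kCode i) (mm_length _ _)] at hf
    rw [← val_app hG, Nat.eq_of_beq_eq_true hf]
  · rintro i j ⟨hi, _⟩ ⟨hj, _⟩ h
    have hu : ∀ i < 6480, IsUnit (toMat ω (kCode i)) := by
      intro i hi
      obtain ⟨a, ha, n, hn, e⟩ := kCode_mem hG hi
      obtain ⟨w, hw, ew⟩ := kSet_subset hG (kCode_mem hG hi)
      rw [ew]
      clear ew
      induction w with
      | nil => rw [toMat_ev_nil hG]; exact isUnit_one
      | cons j w ih =>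
        simp only [small, List.all_cons, Bool.and_eq_true, decide_eq_true_eq] at hw
        rw [toMat_ev_cons hG]
        exact IsUnit.mul ⟨⟨toMat ω (g7 j), toMat ω (Data.gen7Inv.getD j []),
          by rw [← toMat_mm hG, (inv_ok ⟨j, hw.1⟩).1, toMat_idM hG],
          by rw [← toMat_mm hG, (inv_ok ⟨j, hw.1⟩).2, toMat_idM hG]⟩, rfl⟩
          (ih (by simp only [small]; exact hw.2))
    rw [dif_pos (hu i hi), dif_pos (hu j hj)] at h
    refine kCode_inj hG hi hj ?_
    have := congrArg Units.val h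
    rwa [IsUnit.unit_spec, IsUnit.unit_spec] at this
  · rintro g ⟨hg, hfix⟩
    have hm := mem_kSet_of_fix hG hg one_ne_zero (by rw [one_smul]; exact hfix)
    obtain ⟨a, ha, n, hn, e⟩ := hm
    refine ⟨a * 80 + n, ⟨by omega, ?_⟩, ?_⟩
    · have e' : (g : Matrix F9 F9 F) = toMat ω (kCode (a * 80 + n)) := by
        rw [e, kCode, show (a * 80 + n) / 80 = a by omega, show (a * 80 + n) % 80 = n by omega,
          toMat_mm hG]
      rw [fixTest, kCodeF_eq (by omega), appF_eq (M := kCode _) (mm_length _ _)]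
      have hlt : app (kCode (a * 80 + n)) 1 < 2 ^ 18 := by
        have hM : ∀ v, v = (kCode (a * 80 + n)).getD 0 0 → v < 2 ^ 18 := by
          intro v hv
          rw [hv, List.getD_eq_getElem _ _ (by rw [kCode, mm_length]; norm_num)]
          exact kCode_bound (by omega) _ (List.getElem_mem _)
        obtain ⟨v, hv, ev⟩ := val_surj hG (val ω (app (kCode (a * 80 + n)) 1))
        have : app (kCode (a * 80 + n)) 1 = (kCode (a * 80 + n)).getD 0 0 := by
          simp [app, appN, pick, Nat.testBit]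
        rw [this]; exact hM _ rfl
      rw [e', ← val_app hG] at hfix
      rw [val_inj hG hlt (by norm_num) hfix]
      rfl
    · have e' : (g : Matrix F9 F9 F) = toMat ω (kCode (a * 80 + n)) := by
        rw [e, kCode, show (a * 80 + n) / 80 = a by omega, show (a * 80 + n) % 80 = n by omega,
          toMat_mm hG]
      have hu : IsUnit (toMat ω (kCode (a * 80 + n))) := e' ▸ g.isUnit
      rw [dif_pos hu]
      exact Units.ext (by rw [IsUnit.unit_spec, e'])

end

end Cfsg.Agent.H15.J3
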