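import Cfsg.Agent.H15.J3.Cosets

/-!
The stabiliser of the base line in `3·J₃`.
-/

set_option autoImplicit false

namespace Cfsg.Agent.H15.J3

open Cfsg.Spor Matrix Cfsg.Agent.H16

theorem dg_line : ∀ a : Fin 81, norm (app (dgc a) 1) = 1 := by decide +kernel

theorem rr_line : ∀ n : Fin 80, norm (app (rrc n) 1) = 1 := by decide +kernel

theorem rep_line : ∀ l : Fin 28, norm (app (repc l) 1) = 1 → l.1 = 0 := by decide +kernel

/-- A list packed in one number. -/
noncomputable def key (M : List ℕ) : ℕ :=
  List.rec (motive := fun _ => ℕ) 0 (fun c _ ih => Nat.add (Nat.mul ih 262144) c) M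

/-- The `i`-th element in increasing order. -/
noncomputable def srtAt (i : ℕ) : ℕ := PArr.get 13 Data.srt i

/-- Order and size of the entries. -/
noncomputable def srtCheck (i : ℕ) : Bool :=
  forceNat (srtAt i) fun x => Nat.blt x 6480 &&
    (kCodeF x).all (fun c => Nat.blt c 262144) &&
    (Nat.beq i 0 || Nat.blt (key (kCodeF (srtAt (Nat.pred i)))) (key (kCodeF x)))

theorem srt_a : allFrom srtCheck 2160 0 = true := by decide +kernel

theorem srt_b : allFrom srtCheck 2160 2160 = true := by decide +kernel

theorem srt_c : allFrom srtCheck 2160 4320 = true := by decide +kernel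

/-- The stabiliser test. -/
noncomputable def fixTest (i : ℕ) : Bool := Nat.beq (appF (kCodeF i) 1) 1

theorem countFrom_add (p : ℕ → Bool) : ∀ (n m lo : ℕ),
    countFrom p (n + m) lo = countFrom p n lo + countFrom p m (lo + n)
  | 0, m, lo => by rw [Nat.zero_add, Nat.add_zero]; simp [countFrom]
  | n + 1, m, lo => by
    rw [show n + 1 + m = (n + m) + 1 by omega, countFrom_succ, countFrom_succ,
      countFrom_add p n m (lo + 1), show lo + (n + 1) = lo + 1 + n by omega]
    omega

theorem countFrom_step {p : ℕ → Bool} {n m lo a b : ℕ} (h1 : countFrom p n lo = a)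
    (h2 : countFrom p m (lo + n) = b) : countFrom p (n + m) lo = a + b := by
  rw [countFrom_add, h1, h2]

theorem fixTest_count : countFrom fixTest 6480 0 = 2160 := by
  rw [show 6480 = 1080 + 1080 + 1080 + 1080 + 1080 + 1080 from rfl, countFrom_add, countFrom_add,
    countFrom_add, countFrom_add, countFrom_add]
  decide +kernel

end Cfsg.Agent.H15.J3
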