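import Cfsg.Agent.H15.J3.Fast
import Cfsg.Agent.H15.J3.Data
import Cfsg.Agent.H15.J3.Table

/-!
Every packed vector reduces to one of three base points; the labels are counted.
-/

set_option autoImplicit false

namespace Cfsg.Agent.H15.J3

open Cfsg.Agent.H16

/-- The normal form, with primitives only. -/
noncomputable def normF (v : ℕ) : ℕ :=
  forceNat (mwF v) fun a => forceNat (mwF a) fun b =>
    forceNat (Bool.rec b a (Nat.ble a b)) fun m => Bool.rec m v (Nat.ble v m)

/-- The table entry of a vector. -/
noncomputable def entry (v : ℕ) : ℕ := PArr.get 8 Data.labs v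

/-- The orbit label of an entry. -/
noncomputable def elab3 (x : ℕ) : ℕ := Nat.shiftRight x 6

/-- The distance of an entry. -/
noncomputable def edist (x : ℕ) : ℕ := Nat.land x 15

/-- The step of an entry. -/
noncomputable def estep (x : ℕ) : ℕ := Nat.land (Nat.shiftRight x 4) 3

/-- One chunk of a table lookup. -/
noncomputable def chunk (t v : ℕ) : ℕ :=
  Nat.land (Nat.shiftRight t (Nat.mul (Nat.land v 7) 18)) 262143

/-- The image under a table. -/
noncomputable def tabApp (T : List ℕ) : ℕ → ℕ :=
  List.rec (motive := fun _ => ℕ → ℕ) (fun _ => 0)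
    (fun t _ ih v => Nat.xor (chunk t v) (ih (Nat.shiftRight v 3))) T

/-- The image under one of the four steps. -/
noncomputable def stepApp (g v : ℕ) : ℕ := tabApp (Data.steps.getD g []) v

/-- Parity of the weight. -/
noncomputable def oddWt (v : ℕ) : Bool :=
  forceNat (Nat.lor (Nat.land v 511) (Nat.shiftRight v 9)) fun s =>
    Nat.beq (Nat.land (Nat.xor (Nat.xor (Nat.xor (Nat.xor s (Nat.shiftRight s 1))
      (Nat.xor (Nat.shiftRight s 2) (Nat.shiftRight s 3)))
      (Nat.xor (Nat.xor (Nat.shiftRight s 4) (Nat.shiftRight s 5))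
      (Nat.xor (Nat.shiftRight s 6) (Nat.shiftRight s 7)))) (Nat.shiftRight s 8)) 1) 1

/-- The base point with a label. -/
noncomputable def basePt (l : ℕ) : ℕ := [0, 1, 73, 72].getD l 0

/-- The check at one vector. -/
noncomputable def sweepCheck (v : ℕ) : Bool :=
  Bool.rec
    (forceNat (entry v) fun x => forceNat (elab3 x) fun l =>
      Nat.blt 0 l && Nat.blt l 4 && ((Nat.beq l 3) == !(oddWt v)) &&
        Bool.rec
          (forceNat (normF (stepApp (estep x) v)) fun w => forceNat (entry w) fun y =>
            Nat.beq (elab3 y) l && Nat.blt (edist y) (edist x))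
          (Nat.beq v (basePt l))
          (Nat.beq (edist x) 0))
    true
    (Nat.beq v 0 || !(Nat.beq (normF v) v))

/-- The vectors in normal form with label one. -/
noncomputable def isOne (v : ℕ) : Bool :=
  Nat.beq (elab3 (entry v)) 1 && Nat.beq (normF v) v

/-- The check on a block. -/
noncomputable def sweepBlock (b : ℕ) : Bool := allFrom sweepCheck 1024 (Nat.mul b 1024)

/-- Count in blocks. -/
noncomputable def oneBlocks (n : ℕ) : ℕ → ℕ :=
  Nat.rec (motive := fun _ => ℕ → ℕ) (fun _ => 0)
    (fun _ ih b => forceNat (countFrom isOne 1024 (Nat.mul b 1024)) fun c =>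
      Nat.add c (ih (Nat.succ b))) n

end Cfsg.Agent.H15.J3
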